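import Cfsg.Agent.Lib.Lie.BinaryPSL.Mat

/-!
# The binary coset actions of `PSL₂` in characteristic two
-/

set_option autoImplicit false

namespace CfsgLib.Lie.BinaryPSL

open Matrix
open CfsgLib.Classical.Trace
open scoped MatrixGroups

variable {F : Type*} [Field F]

local notation "PSL₂" => Matrix.ProjectiveSpecialLinearGroup (Fin 2) F

theorem neg_eq_of_two (h2 : (2 : F) = 0) (x : SL(2, F)) : -x = x := by
  refine ext_sl fun i j => ?_
  rw [Matrix.SpecialLinearGroup.coe_neg, Matrix.neg_apply]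
  linear_combination -((x : Matrix (Fin 2) (Fin 2) F) i j) * h2

theorem pr_inj_of_two (h2 : (2 : F) = 0) {x y : SL(2, F)} (h : pr x = pr y) : x = y := by
  rcases pr_eq_iff.1 h with e | e
  · exact e.symm
  · rw [e, neg_eq_of_two h2]

/-- The upper unitriangular group. -/
def upU (F : Type*) [Field F] : Subgroup (Matrix.ProjectiveSpecialLinearGroup (Fin 2) F) where
  carrier := {g | ∃ t, g = pr (uS t)}
  mul_mem' := by
    rintro _ _ ⟨s, rfl⟩ ⟨t, rfl⟩
    exact ⟨s + t, by rw [uS_add]; rfl⟩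
  one_mem' := ⟨0, by rw [uS_zero]; rfl⟩
  inv_mem' := by
    rintro _ ⟨s, rfl⟩
    exact ⟨-s, by rw [← uS_inv]; rfl⟩

theorem mem_upU {g : PSL₂} : g ∈ upU F ↔ ∃ t, g = pr (uS t) := Iff.rfl

theorem eq_uS {x : SL(2, F)} (h0 : (x : Matrix (Fin 2) (Fin 2) F) 0 0 = 1) (h1 : (x : Matrix (Fin 2) (Fin 2) F) 1 0 = 0) :
    x = uS ((x : Matrix (Fin 2) (Fin 2) F) 0 1) := by
  have hd := det_eq x
  rw [h0, h1] at hd
  refine ext_sl fun i j => ?_
  fin_cases i <;> fin_cases j <;> simp [uS_coe, h0, h1]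
  linear_combination hd

/-- The action on the nonzero vectors. -/
theorem smul_upU_iff (h2 : (2 : F) = 0) {g x y : SL(2, F)} :
    pr g • (pr x : PSL₂ ⧸ upU F) = (pr y : PSL₂ ⧸ upU F) ↔
      ∀ i, ((g * x : SL(2, F)) : Matrix (Fin 2) (Fin 2) F) i 0 = (y : Matrix (Fin 2) (Fin 2) F) i 0 := by
  rw [MulAction.Quotient.smul_coe, smul_eq_mul, eq_comm, QuotientGroup.eq]
  constructor
  · intro h
    obtain ⟨t, ht⟩ := mem_upU.1 h
    have h1 : y⁻¹ * (g * x) = uS t := pr_inj_of_two h2 ht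
    intro i
    rw [show g * x = y * uS t by rw [← h1, mul_inv_cancel_left]]
    simp [Matrix.mul_apply, Fin.sum_univ_two, uS_coe]
  · intro h
    have h1 : ∀ i, ((y⁻¹ * (g * x) : SL(2, F)) : Matrix (Fin 2) (Fin 2) F) i 0 = (1 : Matrix (Fin 2) (Fin 2) F) i 0 := by
      intro i
      rw [Matrix.SpecialLinearGroup.coe_mul, Matrix.mul_apply, Fin.sum_univ_two, h 0, h 1, ← Fin.sum_univ_two
        (fun k => (y⁻¹ : SL(2, F)).1 i k * y.1 k 0), ← Matrix.mul_apply, ← Matrix.SpecialLinearGroup.coe_mul,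
        inv_mul_cancel, Matrix.SpecialLinearGroup.coe_one]
    exact mem_upU.2 ⟨_, congrArg pr (eq_uS (h1 0) (h1 1))⟩

/-- The action on the cosets of a Sylow subgroup is binary. -/
theorem binary_upU (h2 : (2 : F) = 0) : Binary PSL₂ (PSL₂ ⧸ upU F) := by
  intro n I J hn hp
  have hrep : ∀ p : PSL₂ ⧸ upU F, ∃ x : SL(2, F), (pr x : PSL₂ ⧸ upU F) = p := fun p => by
    obtain ⟨a, rfl⟩ := QuotientGroup.mk_surjective p
    obtain ⟨x, rfl⟩ := QuotientGroup.mk_surjective a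
    exact ⟨x, rfl⟩
  choose x hx using fun i => hrep (I i)
  choose y hy using fun i => hrep (J i)
  obtain ⟨v, hv⟩ : ∃ v : Fin n → Fin 2 → F, ∀ i k, v i k = (x i : Matrix (Fin 2) (Fin 2) F) k 0 := ⟨_, fun _ _ => rfl⟩
  obtain ⟨w, hw⟩ : ∃ w : Fin n → Fin 2 → F, ∀ i k, w i k = (y i : Matrix (Fin 2) (Fin 2) F) k 0 := ⟨_, fun _ _ => rfl⟩
  have hiff : ∀ (g : SL(2, F)) i, pr g • I i = J i ↔ (g : Matrix (Fin 2) (Fin 2) F) *ᵥ v i = w i := fun g i => by
    rw [← hx i, ← hy i, smul_upU_iff h2, funext_iff]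
    refine forall_congr' fun k => ?_
    simp only [Matrix.SpecialLinearGroup.coe_mul, Matrix.mul_apply, Matrix.mulVec, dotProduct, hv, hw]
  obtain ⟨ω, hω⟩ : ∃ ω : (Fin 2 → F) → (Fin 2 → F) → F, ∀ a b, ω a b = a 0 * b 1 - a 1 * b 0 := ⟨_, fun _ _ => rfl⟩
  have hinv : ∀ (g : SL(2, F)) (a b : Fin 2 → F),
      ω ((g : Matrix (Fin 2) (Fin 2) F) *ᵥ a) ((g : Matrix (Fin 2) (Fin 2) F) *ᵥ b) = ω a b := fun g a b => by
    simp only [hω, Matrix.mulVec, dotProduct, Fin.sum_univ_two]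
    linear_combination (a 0 * b 1 - a 1 * b 0) * det_eq g
  have hne : ∀ i, v i 0 ≠ 0 ∨ v i 1 ≠ 0 := fun i => by
    by_contra h
    push Not at h
    have hd := det_eq (x i)
    rw [← hv, ← hv, h.1, h.2] at hd
    simp at hd
  obtain ⟨i0, j1, hij⟩ : ∃ i0 j1 : Fin n, i0 ≠ j1 := ⟨⟨0, by omega⟩, ⟨1, by omega⟩, by simp⟩
  have hget : ∀ i j, i ≠ j → ∃ g : SL(2, F), (g : Matrix (Fin 2) (Fin 2) F) *ᵥ v i = w i ∧
      (g : Matrix (Fin 2) (Fin 2) F) *ᵥ v j = w j := fun i j h => by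
    obtain ⟨g, h1, h2'⟩ := hp i j h
    obtain ⟨g, rfl⟩ := QuotientGroup.mk_surjective g
    exact ⟨g, (hiff g i).1 h1, (hiff g j).1 h2'⟩
  by_cases hpar : ∀ k, ω (v i0) (v k) = 0
  · -- all vectors on one line
    obtain ⟨g, hg0, -⟩ := hget i0 j1 hij
    refine ⟨pr g, fun k => (hiff g k).2 ?_⟩
    obtain ⟨c, hc⟩ : ∃ c : F, v k = c • v i0 := by
      have h := hpar k
      rw [hω] at h
      rcases hne i0 with h0 | h0
      · refine ⟨v k 0 / v i0 0, funext fun i => ?_⟩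
        fin_cases i <;> simp <;> field_simp
        linear_combination h
      · refine ⟨v k 1 / v i0 1, funext fun i => ?_⟩
        fin_cases i <;> simp <;> field_simp
        linear_combination -h
    by_cases hk : k = i0
    · rw [hk]; exact hg0
    obtain ⟨g', h1, h2'⟩ := hget i0 k (Ne.symm hk)
    rw [← h2', hc, Matrix.mulVec_smul, Matrix.mulVec_smul, hg0, h1]
  · push Not at hpar
    obtain ⟨j, hj⟩ := hpar
    have hj0 : i0 ≠ j := fun e => hj (by rw [← e, hω]; ring)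
    obtain ⟨g, hg0, hgj⟩ := hget i0 j hj0
    refine ⟨pr g, fun k => (hiff g k).2 ?_⟩
    obtain ⟨u, hu⟩ : ∃ u, u = (g : Matrix (Fin 2) (Fin 2) F) *ᵥ v k := ⟨_, rfl⟩
    rw [← hu]
    have key : ∀ i, (g : Matrix (Fin 2) (Fin 2) F) *ᵥ v i = w i → ω (w i) u = ω (w i) (w k) := fun i hi => by
      by_cases hik : i = k
      · rw [hu, ← hik, hi]
      obtain ⟨g', h1, h2'⟩ := hget i k hik
      rw [hu]
      nth_rw 1 [← hi]
      rw [hinv, ← hinv g', h1, h2']
    have hd : ω (w i0) (w j) ≠ 0 := by rw [← hg0, ← hgj, hinv]; exact hj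
    have ka := key i0 hg0
    have kb := key j hgj
    rw [hω] at hd
    rw [hω, hω] at ka kb
    funext i
    fin_cases i <;> simp
    · exact sub_eq_zero.1 ((mul_eq_zero.1 (show (w i0 0 * w j 1 - w i0 1 * w j 0) * (u 0 - w k 0) = 0 by
        linear_combination w j 0 * ka - w i0 0 * kb)).resolve_left hd)
    · exact sub_eq_zero.1 ((mul_eq_zero.1 (show (w i0 0 * w j 1 - w i0 1 * w j 0) * (u 1 - w k 1) = 0 by
        linear_combination w j 1 * ka - w i0 1 * kb)).resolve_left hd)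

/-- A criterion for groups of prime order. -/
theorem binary_of_triple {G : Type*} [Group G] (H : Subgroup G)
    (hTI : ∀ p q : G ⧸ H, ∀ g : G, g ≠ 1 → g • p = p → g • q = q → ∀ h : G, h • p = p → h • q = q)
    (htri : ∀ (p q r : G ⧸ H) (s t : G), s • p = p → t • q = q → (t⁻¹ * s) • r = r → s ≠ 1 → t ≠ 1 → t⁻¹ * s ≠ 1 →
      t • p = p) : Binary G (G ⧸ H) := by
  intro n I J hn hp
  obtain ⟨i0, j1, hij⟩ : ∃ i0 j1 : Fin n, i0 ≠ j1 := ⟨⟨0, by omega⟩, ⟨1, by omega⟩, by simp⟩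
  by_cases hall : ∀ k, ∀ h : G, h • I i0 = I i0 → h • I k = I k
  · obtain ⟨g, hg0, -⟩ := hp i0 j1 hij
    refine ⟨g, fun k => ?_⟩
    by_cases hk : k = i0
    · rw [hk]; exact hg0
    obtain ⟨g', h1, h2⟩ := hp i0 k (Ne.symm hk)
    have : (g'⁻¹ * g) • I k = I k := hall k _ (by rw [mul_smul, hg0, ← h1, inv_smul_smul])
    rwa [mul_smul, inv_smul_eq_iff, h2] at this
  · push Not at hall
    obtain ⟨j, h, hh0, hhj⟩ := hall
    have hj0 : i0 ≠ j := fun e => hhj (by rw [← e]; exact hh0)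
    obtain ⟨g, hg0, hgj⟩ := hp i0 j hj0
    refine ⟨g, fun k => ?_⟩
    by_cases hk0 : k = i0
    · rw [hk0]; exact hg0
    by_cases hkj : k = j
    · rw [hkj]; exact hgj
    obtain ⟨a, a0, ak⟩ := hp i0 k (Ne.symm hk0)
    obtain ⟨b, bj, bk⟩ := hp j k (Ne.symm hkj)
    obtain ⟨s, hs⟩ : ∃ s, s = g⁻¹ * a := ⟨_, rfl⟩
    obtain ⟨t, ht⟩ : ∃ t, t = g⁻¹ * b := ⟨_, rfl⟩
    have hs0 : s • I i0 = I i0 := by rw [hs, mul_smul, a0, ← hg0, inv_smul_smul]
    have htj : t • I j = I j := by rw [ht, mul_smul, bj, ← hgj, inv_smul_smul]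
    have hst : (t⁻¹ * s) • I k = I k := by
      rw [hs, ht, _root_.mul_inv_rev, inv_inv, mul_assoc, mul_inv_cancel_left, mul_smul, ak, ← bk, inv_smul_smul]
    have hfix : ∀ u : G, u • I i0 = I i0 → u • I j = I j → u = 1 := fun u h1 h2 => by
      by_contra hu
      exact hhj (hTI _ _ u hu h1 h2 h hh0)
    by_cases hs1 : s = 1
    · rw [hs, inv_mul_eq_one] at hs1; rw [hs1]; exact ak
    by_cases ht1 : t = 1
    · rw [ht, inv_mul_eq_one] at ht1; rw [ht1]; exact bk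
    exfalso
    by_cases he : t⁻¹ * s = 1
    · rw [inv_mul_eq_one] at he
      exact ht1 (hfix t (he ▸ hs0) htj)
    exact ht1 (hfix t (htri _ _ _ s t hs0 htj hst hs1 ht1 he) htj)

theorem trc_of_cube (h2 : (2 : F) = 0) {x : SL(2, F)} (hne : pr x ≠ 1) (h : pr x ^ 3 = 1) : trc x = 1 := by
  have e : x ^ 3 = 1 := pr_inj_of_two h2 h
  have e' : (x : Matrix (Fin 2) (Fin 2) F) * x * x = 1 := by
    rw [← Matrix.SpecialLinearGroup.coe_mul, ← Matrix.SpecialLinearGroup.coe_mul,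
      show x * x * x = x ^ 3 by rw [pow_three, mul_assoc], e, Matrix.SpecialLinearGroup.coe_one]
  rw [sq_eq, sub_mul, smul_mul_assoc, sq_eq, one_mul] at e'
  by_contra ht
  refine hne (pr_eq_one_iff.2 ?_)
  have hent : ∀ i j, trc x * (trc x * x.1 i j - (1 : Matrix (Fin 2) (Fin 2) F) i j) - x.1 i j =
      (1 : Matrix (Fin 2) (Fin 2) F) i j := fun i j => by
    simpa using congrFun (congrFun e' i) j
  have ht2 : trc x ^ 2 - 1 ≠ 0 := fun e => ht (by
    have : (trc x - 1) ^ 2 = 0 := by linear_combination e + (1 - trc x) * h2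
    exact sub_eq_zero.1 (eq_zero_of_pow_eq_zero this))
  refine ⟨?_, ?_, ?_⟩
  · have := hent 0 1; simp at this
    exact (mul_eq_zero.1 (show (trc x ^ 2 - 1) * x.1 0 1 = 0 by linear_combination this)).resolve_left ht2
  · have := hent 1 0; simp at this
    exact (mul_eq_zero.1 (show (trc x ^ 2 - 1) * x.1 1 0 = 0 by linear_combination this)).resolve_left ht2
  · have e0 := hent 0 0; have e1 := hent 1 1; simp at e0 e1
    exact sub_eq_zero.1 ((mul_eq_zero.1 (show (trc x ^ 2 - 1) * (x.1 0 0 - x.1 1 1) = 0 by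
      linear_combination e0 - e1)).resolve_left ht2)

/-- Three elements of order three with product one commute when there is no cube root of unity. -/
theorem commute_of_trc_one [Fintype F] (h2 : (2 : F) = 0) (hno : ∀ w : F, w ^ 2 + w + 1 ≠ 0) {A B : SL(2, F)}
    (hA : trc A = 1) (hB : trc B = 1) (hC : trc (A⁻¹ * B) = 1) : A * B = B * A := by
  obtain ⟨A0, hA0⟩ : ∃ A0 : SL(2, F), (A0 : Matrix (Fin 2) (Fin 2) F) = !![0, -1; 1, 1] :=
    ⟨⟨!![0, -1; 1, 1], by simp [Matrix.det_fin_two]⟩, rfl⟩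
  have hA0t : trc A0 = 1 := by simp [trc, hA0]
  have ht : trc A ^ 2 ≠ 4 := fun e => one_ne_zero (α := F) (by
    rw [hA] at e; linear_combination e + 2 * h2)
  obtain ⟨u, hu⟩ := exists_conj (not_isScalar_of_trc ht)
    (not_isScalar_of_trc (x := A0) (by rw [hA0t, ← hA]; exact ht)) (by rw [hA0t, hA]) (normSurj_finite ht)
  obtain ⟨B', hB'⟩ : ∃ B', B' = u * B * u⁻¹ := ⟨_, rfl⟩
  have hBt : trc B' = 1 := by rw [hB', trc_conj, hB]
  have hCt : trc (A0⁻¹ * B') = 1 := by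
    rw [← hu, hB', show (u * A * u⁻¹)⁻¹ * (u * B * u⁻¹) = u * (A⁻¹ * B) * u⁻¹ by group, trc_conj, hC]
  suffices key : A0 * B' = B' * A0 by
    rw [← hu, hB'] at key
    have := congrArg (fun g => u⁻¹ * g * u) key
    simpa [mul_assoc] using this
  have hd := det_eq B'
  simp only [trc] at hBt hCt
  simp [Matrix.SpecialLinearGroup.coe_inv, Matrix.adjugate_fin_two, Matrix.mul_apply, Fin.sum_univ_two, hA0] at hCt
  obtain ⟨x, hx⟩ : ∃ x : F, x = B'.1 0 0 := ⟨_, rfl⟩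
  obtain ⟨y, hy⟩ : ∃ y : F, y = B'.1 0 1 := ⟨_, rfl⟩
  obtain ⟨z, hz⟩ : ∃ z : F, z = B'.1 1 0 := ⟨_, rfl⟩
  have h11 : B'.1 1 1 = 1 + x := by rw [hx]; linear_combination hBt - x * h2 + hx * 2 * 0 - (B'.1 0 0 - x) * h2
  rw [h11, ← hx, ← hy, ← hz] at hd
  rw [← hx, ← hy, ← hz] at hCt
  have hpr : (1 + y) ^ 2 + (1 + y) * (1 + z) + (1 + z) ^ 2 = 0 := by grind
  have hy1 : 1 + y = 0 := by
    by_contra hne
    refine hno ((1 + z) / (1 + y)) ?_
    field_simp
    linear_combination hpr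
  have hz1 : 1 + z = 0 := by
    rw [hy1] at hpr
    exact eq_zero_of_pow_eq_zero (n := 2) (by linear_combination hpr)
  refine ext_sl fun i j => ?_
  fin_cases i <;> fin_cases j <;>
    simp [Matrix.mul_apply, Fin.sum_univ_two, hA0, h11, ← hx, ← hy, ← hz] <;> grind

end CfsgLib.Lie.BinaryPSL
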