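import Mathlib.GroupTheory.GroupAction.Quotient
import Mathlib.GroupTheory.Index
import Mathlib.Data.Fintype.Card
import Mathlib.Data.Fin.VecNotation
import Mathlib.Algebra.Group.End
import Mathlib.Tactic

/-!
# Binary actions

An action is binary when two tuples are equivalent as soon as they are equivalent in every pair of positions.
-/

set_option autoImplicit false

namespace CfsgLib.Lie.BinaryPSL

variable {G X : Type*} [Group G] [MulAction G X]

/-- Relational complexity two. -/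
def Binary (G X : Type*) [Group G] [MulAction G X] : Prop :=
  ∀ (n : ℕ) (I J : Fin n → X), 2 ≤ n →
    (∀ i j : Fin n, i ≠ j → ∃ g : G, g • I i = J i ∧ g • I j = J j) → ∃ g : G, ∀ i, g • I i = J i

/-- Three points showing that an action is not binary. -/
theorem not_binary_three (a b : G) (x y z : X) (ha : a • x = x) (hb : b • y = y) (hc : (a⁻¹ * b) • z = z)
    (h : ∀ g : G, g • x = x → g • y = y → g • z ≠ a • z) : ¬ Binary G X := by
  intro hB
  have hbz : b • z = a • z := by rwa [mul_smul, inv_smul_eq_iff] at hc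
  obtain ⟨g, hg⟩ := hB 3 ![x, y, z] ![x, y, a • z] (by norm_num) fun i j hij => by
    fin_cases i <;> fin_cases j
    · exact absurd rfl hij
    · exact ⟨1, one_smul G x, one_smul G y⟩
    · exact ⟨a, ha, rfl⟩
    · exact ⟨1, one_smul G y, one_smul G x⟩
    · exact absurd rfl hij
    · exact ⟨b, hb, hbz⟩
    · exact ⟨a, rfl, ha⟩
    · exact ⟨b, hbz, hb⟩
    · exact absurd rfl hij
  exact h g (hg 0) (hg 1) (hg 2)

/-- The elements fixing every fixed point of a given element. -/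
def fixer (X : Type*) [MulAction G X] (a : G) : Subgroup G :=
  ⨅ (p : X) (_ : a • p = p), MulAction.stabilizer G p

theorem mem_fixer {a g : G} : g ∈ fixer X a ↔ ∀ p : X, a • p = p → g • p = p := by
  simp [fixer, Subgroup.mem_iInf]

theorem self_mem_fixer (a : G) : a ∈ fixer X a := mem_fixer.2 fun _ hp => hp

/-- The fixed points of two elements and one further point showing that an action is not binary. -/
theorem not_binary_set [Finite X] (a b : G) (z : X) (hc : (a⁻¹ * b) • z = z)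
    (h : ∀ g ∈ fixer X a, g ∈ fixer X b → g • z ≠ a • z) : ¬ Binary G X := by
  classical
  intro hB
  have hbz : b • z = a • z := by rwa [mul_smul, inv_smul_eq_iff] at hc
  obtain ⟨m, ⟨e⟩⟩ := Finite.exists_equiv_fin {p : X // a • p = p ∨ b • p = p}
  obtain ⟨I, hI⟩ : ∃ I : Fin (m + 2) → X, ∀ i, I i = if hi : (i : ℕ) < m then (e.symm ⟨i, hi⟩).1 else z :=
    ⟨_, fun _ => rfl⟩
  obtain ⟨J, hJ⟩ : ∃ J : Fin (m + 2) → X, ∀ i, J i = if hi : (i : ℕ) < m then (e.symm ⟨i, hi⟩).1 else a • z :=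
    ⟨_, fun _ => rfl⟩
  have hmix : ∀ i j : Fin (m + 2), (i : ℕ) < m → ¬ (j : ℕ) < m →
      ∃ g : G, g • I i = J i ∧ g • I j = J j := fun i j hi hj => by
    rw [hI i, hJ i, hI j, hJ j, dif_pos hi, dif_pos hi, dif_neg hj, dif_neg hj]
    rcases (e.symm ⟨i, hi⟩).2 with hp | hp
    · exact ⟨a, hp, rfl⟩
    · exact ⟨b, hp, hbz⟩
  obtain ⟨g, hg⟩ := hB (m + 2) I J (by omega) fun i j hij => by
    by_cases hi : (i : ℕ) < m <;> by_cases hj : (j : ℕ) < m
    · exact ⟨1, by rw [hI, hJ, dif_pos hi, dif_pos hi, one_smul], by rw [hI, hJ, dif_pos hj, dif_pos hj, one_smul]⟩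
    · exact hmix i j hi hj
    · obtain ⟨g, h1, h2⟩ := hmix j i hj hi
      exact ⟨g, h2, h1⟩
    · exact ⟨a, by rw [hI, hJ, dif_neg hi, dif_neg hi], by rw [hI, hJ, dif_neg hj, dif_neg hj]⟩
  have hfix : ∀ p : X, (a • p = p ∨ b • p = p) → g • p = p := fun p hp => by
    have h1 := hg ⟨e ⟨p, hp⟩, by omega⟩
    rw [hI, hJ, dif_pos (e ⟨p, hp⟩).2, dif_pos (e ⟨p, hp⟩).2] at h1
    simpa using h1
  refine h g (mem_fixer.2 fun p hp => hfix p (Or.inl hp)) (mem_fixer.2 fun p hp => hfix p (Or.inr hp)) ?_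
  have h2 := hg ⟨m, by omega⟩
  rwa [hI, hJ, dif_neg (lt_irrefl m), dif_neg (lt_irrefl m)] at h2

/-- Conjugation carries fixers to fixers. -/
theorem conj_mem_fixer {a g : G} (m : G) (h : g ∈ fixer X a) : m * g * m⁻¹ ∈ fixer X (m * a * m⁻¹) := by
  refine mem_fixer.2 fun p hp => ?_
  have h1 : a • (m⁻¹ • p) = m⁻¹ • p := by
    rw [← mul_smul]
    nth_rw 2 [← hp]
    rw [← mul_smul]; congr 1; group
  rw [mul_smul, mul_smul, mem_fixer.1 h _ h1, smul_inv_smul]

theorem Binary.of_equivariant {Y : Type*} [MulAction G Y] (e : X ≃ Y) (he : ∀ (g : G) x, e (g • x) = g • e x)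
    (h : Binary G X) : Binary G Y := by
  intro n I J hn hp
  have hs : ∀ (g : G) y, e.symm (g • y) = g • e.symm y := fun g y => e.injective (by simp [he])
  obtain ⟨g, hg⟩ := h n (e.symm ∘ I) (e.symm ∘ J) hn fun i j hij => by
    obtain ⟨g, h1, h2⟩ := hp i j hij
    exact ⟨g, by simp only [Function.comp_apply, ← hs, h1], by simp only [Function.comp_apply, ← hs, h2]⟩
  exact ⟨g, fun i => e.symm.injective (by rw [hs]; exact hg i)⟩

/-- The action depends only on the conjugacy class of the subgroup. -/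
theorem binary_conj_iff (H : Subgroup G) (m : G) :
    Binary G (G ⧸ H.map (MulAut.conj m).toMonoidHom) ↔ Binary G (G ⧸ H) := by
  obtain ⟨e, he⟩ : ∃ e : G ⧸ H ≃ G ⧸ H.map (MulAut.conj m).toMonoidHom, ∀ x : G, e (x : G ⧸ H) = ((x * m⁻¹ : G) : G ⧸ _) := by
    refine ⟨Quotient.congr (Equiv.mulRight m⁻¹) fun x y => ?_, fun x => rfl⟩
    rw [QuotientGroup.leftRel_apply, QuotientGroup.leftRel_apply,
      Subgroup.mem_map]
    simp only [Equiv.coe_mulRight, MulEquiv.coe_toMonoidHom, MulAut.conj_apply]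
    refine ⟨fun hh => ⟨_, hh, by group⟩, fun ⟨u, hu, h⟩ => ?_⟩
    have : x⁻¹ * y = u := by
      rw [show x⁻¹ * y = m⁻¹ * ((x * m⁻¹)⁻¹ * (y * m⁻¹)) * m by group, ← h]
      group
    rwa [this]
  have he' : ∀ (g : G) p, e (g • p) = g • e p := fun g p => by
    induction p using QuotientGroup.induction_on with | _ x =>
    rw [MulAction.Quotient.smul_coe, he, he, MulAction.Quotient.smul_coe, smul_eq_mul, smul_eq_mul, mul_assoc]
  exact ⟨fun h => h.of_equivariant e.symm fun g y => e.injective (by rw [he' g (e.symm y), e.apply_symm_apply, e.apply_symm_apply]), fun h => h.of_equivariant e he'⟩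

theorem smul_coe_eq_iff {H : Subgroup G} {g x : G} : g • (x : G ⧸ H) = (x : G ⧸ H) ↔ x⁻¹ * g * x ∈ H := by
  rw [MulAction.Quotient.smul_coe, smul_eq_mul, eq_comm, QuotientGroup.eq, mul_assoc]

theorem smul_one_eq_iff {H : Subgroup G} {g : G} : g • ((1 : G) : G ⧸ H) = ((1 : G) : G ⧸ H) ↔ g ∈ H := by
  rw [smul_coe_eq_iff, inv_one, one_mul, mul_one]

theorem smul_coe_eq_smul_iff {H : Subgroup G} {g a x : G} :
    g • (x : G ⧸ H) = a • (x : G ⧸ H) ↔ x⁻¹ * (a⁻¹ * g) * x ∈ H := by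
  rw [← smul_coe_eq_iff, mul_smul, inv_smul_eq_iff]

/-- A free action is binary. -/
theorem binary_bot : Binary G (G ⧸ (⊥ : Subgroup G)) := by
  intro n I J hn hp
  obtain ⟨g, h0, -⟩ := hp ⟨0, by omega⟩ ⟨1, by omega⟩ (by simp)
  refine ⟨g, fun i => ?_⟩
  by_cases hi : i = ⟨0, by omega⟩
  · rw [hi]; exact h0
  obtain ⟨k, hk0, hki⟩ := hp ⟨0, by omega⟩ i (Ne.symm hi)
  obtain ⟨x, hx⟩ := QuotientGroup.mk_surjective (I ⟨0, by omega⟩)
  have h1 : g • (x : G ⧸ (⊥ : Subgroup G)) = k • (x : G ⧸ (⊥ : Subgroup G)) := by rw [hx, h0, hk0]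
  rw [smul_coe_eq_smul_iff, Subgroup.mem_bot] at h1
  have h2 : k⁻¹ * g = 1 := by
    have := congrArg (fun u => x * u * x⁻¹) h1
    simpa [mul_assoc] using this
  rw [(inv_mul_eq_one.1 h2).symm]
  exact hki

end CfsgLib.Lie.BinaryPSL
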