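import Cfsg.Agent.Lib.Lie.BinaryPSL.Positive
import Cfsg.Agent.Lib.Classical.PSLTwoSimple
import Cfsg.Agent.Lib.Classical.Dickson.SubgroupFacts

/-!
# Point stabilisers of even order, characteristic two
-/

set_option autoImplicit false

namespace CfsgLib.Lie.BinaryPSL

open Matrix
open CfsgLib.Classical CfsgLib.Classical.Trace
open scoped MatrixGroups

variable {F : Type*} [Field F] [Fintype F]

local notation "PSL₂" => Matrix.ProjectiveSpecialLinearGroup (Fin 2) F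

omit [Fintype F] in
theorem charTwo (h2 : (2 : F) = 0) : CharP F 2 := CharTwo.of_one_ne_zero_of_two_eq_zero one_ne_zero h2

theorem exists_sq (h2 : (2 : F) = 0) (d : F) : ∃ α : F, α ^ 2 = d := by
  have := charTwo h2
  exact (frobeniusEquiv F 2).surjective d

/-- An involution is conjugate to a given transvection. -/
theorem exists_conj_uS (h2 : (2 : F) = 0) {c : PSL₂} (hc2 : c ^ 2 = 1) (hc1 : c ≠ 1) :
    ∃ m : PSL₂, m * c * m⁻¹ = pr (uS (1 : F)) := by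
  have := charTwo h2
  obtain ⟨x, rfl⟩ := QuotientGroup.mk_surjective c
  have e : x * x = 1 := pr_inj_of_two h2 (by rw [pow_two] at hc2; exact hc2)
  have e' := congrArg (fun u : SL(2, F) => (u : Matrix (Fin 2) (Fin 2) F)) e
  simp only [Matrix.SpecialLinearGroup.coe_mul, Matrix.SpecialLinearGroup.coe_one, sq_eq] at e'
  have hns : ¬ IsScalar x := fun h => hc1 (pr_eq_one_iff.2 h)
  have hxt : trc x = 0 := by
    by_contra ht
    refine hns ⟨?_, ?_, ?_⟩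
    · simpa [ht] using congrFun (congrFun e' 0) 1
    · simpa [ht] using congrFun (congrFun e' 1) 0
    · have h0 := congrFun (congrFun e' 0) 0
      have h1 := congrFun (congrFun e' 1) 1
      simp at h0 h1
      exact mul_left_cancel₀ ht (by linear_combination h0 - h1)
  have hu : ¬ IsScalar (uS (1 : F)) := fun h => one_ne_zero (α := F) (by simpa [uS_coe] using h.1)
  obtain ⟨u, hu⟩ := exists_conj hns hu (by rw [trc_uS, hxt, h2]) (normSurj_of_two _)
  exact ⟨pr u, congrArg pr hu⟩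

omit [Fintype F] in
/-- The triangular form of an element off the stabiliser of the first axis. -/
theorem eq_uS_lS_uS {x : SL(2, F)} {c : F} (hc : x.1 1 0 = c) (hc0 : c ≠ 0) :
    x = uS ((x.1 0 0 - 1) / c) * lS c * uS ((x.1 1 1 - 1) / c) := by
  have hd := det_eq x
  rw [hc] at hd
  refine ext_sl fun i j => ?_
  fin_cases i <;> fin_cases j <;> simp [uS_coe, lS_coe, Matrix.mul_apply, Fin.sum_univ_two, hc] <;> field_simp
  · ring
  · linear_combination -hd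
  · ring

/-- A proper subgroup with all upper transvections is triangular. -/
theorem upper_of_transvections (h2 : (2 : F) = 0) {H : Subgroup PSL₂} (hH : H ≠ ⊤)
    (hU : ∀ t, pr (uS t) ∈ H) {x : SL(2, F)} (hx : pr x ∈ H) : x.1 1 0 = 0 := by
  by_contra hc
  refine hH (eq_top_iff.2 fun g _ => ?_)
  obtain ⟨c, hc'⟩ : ∃ c, x.1 1 0 = c := ⟨_, rfl⟩
  rw [hc'] at hc
  have hl : pr (lS c) ∈ H := by
    have e := eq_uS_lS_uS hc' hc
    obtain ⟨s, hs⟩ : ∃ s, s = (x.1 0 0 - 1) / c := ⟨_, rfl⟩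
    obtain ⟨t, ht⟩ : ∃ t, t = (x.1 1 1 - 1) / c := ⟨_, rfl⟩
    rw [← hs, ← ht] at e
    rw [show lS c = (uS s)⁻¹ * x * (uS t)⁻¹ by rw [e]; group]
    exact mul_mem (mul_mem (inv_mem (hU s)) hx) (inv_mem (hU t))
  obtain ⟨w, hw⟩ : ∃ w, w = uS (-c⁻¹) * lS c * uS (-c⁻¹) := ⟨_, rfl⟩
  have hwH : pr w ∈ H := by rw [hw]; exact mul_mem (mul_mem (hU _) hl) (hU _)
  have hall : ∀ d, pr (lS d) ∈ H := fun d => by
    have e : w * uS (-d / c ^ 2) * w⁻¹ = lS d := by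
      rw [mul_inv_eq_iff_eq_mul, hw]
      refine ext_sl fun i j => ?_
      fin_cases i <;> fin_cases j <;> simp [uS_coe, lS_coe, Matrix.mul_apply, Fin.sum_univ_two] <;>
        (try field_simp) <;> first | ring1 | simp | (ring_nf; simp)
    rw [← e]
    exact mul_mem (mul_mem hwH (hU _)) (inv_mem hwH)
  have hne : ∀ y : SL(2, F), y.1 1 0 ≠ 0 → pr y ∈ H := fun y hy => by
    rw [eq_uS_lS_uS rfl hy]
    exact mul_mem (mul_mem (hU _) (hall _)) (hU _)
  obtain ⟨y, rfl⟩ := QuotientGroup.mk_surjective g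
  by_cases hy : y.1 1 0 = 0
  · have h1 := hne (lS 1 * y) (by
      simp [lS_coe, Matrix.mul_apply, Fin.sum_univ_two, hy]
      intro h
      have hd := det_eq y
      rw [h, hy] at hd
      simp at hd)
    exact (H.mul_mem_cancel_left (hall 1)).1 h1
  · exact hne y hy

omit [Fintype F] in
theorem eq_dS_uS {x : SL(2, F)} (h : x.1 1 0 = 0) :
    ∃ (l : Fˣ) (t : F), x = dS l * uS t ∧ (l : F) = x.1 0 0 := by
  have hd := det_eq x
  rw [h, mul_zero, sub_zero] at hd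
  have h0 : x.1 0 0 ≠ 0 := left_ne_zero_of_mul_eq_one hd
  refine ⟨Units.mk0 _ h0, x.1 0 1 / x.1 0 0, ext_sl fun i j => ?_, rfl⟩
  fin_cases i <;> fin_cases j <;> simp [dS_coe, uS_coe, Matrix.mul_apply, Fin.sum_univ_two, h]
  · field_simp
  · exact eq_inv_of_mul_eq_one_right hd

/-- A proper overgroup of the transvection group inducing dilations. -/
theorem eq_upU_of_binary (h2 : (2 : F) = 0) {H : Subgroup PSL₂} (hH : H ≠ ⊤) (hU : ∀ t, pr (uS t) ∈ H)
    (hB : Binary PSL₂ (PSL₂ ⧸ H)) : H = upU F := by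
  by_contra hne
  obtain ⟨ζ, hζ, hζ1⟩ : ∃ ζ : Fˣ, pr (dS ζ) ∈ H ∧ ζ ≠ 1 := by
    by_contra hno
    push Not at hno
    refine hne (le_antisymm (fun g hg => ?_) fun g hg => ?_)
    · obtain ⟨x, rfl⟩ := QuotientGroup.mk_surjective g
      obtain ⟨l, t, rfl, -⟩ := eq_dS_uS (upper_of_transvections h2 hH hU hg)
      have hl : l = 1 := hno l ((H.mul_mem_cancel_right (hU t)).1 hg)
      exact mem_upU.2 ⟨t, by rw [hl, dS_one, one_mul]⟩
    · obtain ⟨t, rfl⟩ := mem_upU.1 hg; exact hU t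
  have hcrit : ∀ {g x y : SL(2, F)} (l : Fˣ), pr (dS l) ∈ H →
      (∀ i, ((g * x : SL(2, F)) : Matrix (Fin 2) (Fin 2) F) i 0 = (l : F) * y.1 i 0) →
      pr g • (pr x : PSL₂ ⧸ H) = (pr y : PSL₂ ⧸ H) := by
    intro g x y l hl h
    rw [MulAction.Quotient.smul_coe, smul_eq_mul, eq_comm, QuotientGroup.eq]
    show pr (y⁻¹ * (g * x)) ∈ H
    obtain ⟨z, hz⟩ : ∃ z, z = y⁻¹ * (g * x) := ⟨_, rfl⟩
    have e : ∀ i, z.1 i 0 = (l : F) * (1 : Matrix (Fin 2) (Fin 2) F) i 0 := by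
      intro i
      have e1 : ((y⁻¹ * y : SL(2, F)) : Matrix (Fin 2) (Fin 2) F) i 0 = (1 : Matrix (Fin 2) (Fin 2) F) i 0 := by
        rw [inv_mul_cancel, Matrix.SpecialLinearGroup.coe_one]
      rw [Matrix.SpecialLinearGroup.coe_mul, Matrix.mul_apply, Fin.sum_univ_two] at e1
      rw [hz, Matrix.SpecialLinearGroup.coe_mul, Matrix.mul_apply, Fin.sum_univ_two, h, h, ← e1]
      ring
    rw [← hz]
    obtain ⟨l', t, hzz, hl'⟩ := eq_dS_uS (x := z) (by simpa using e 1)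
    have : l' = l := Units.ext (by rw [hl']; simpa using e 0)
    rw [hzz, this]
    exact mul_mem hl (hU t)
  obtain ⟨u, hu⟩ : ∃ u : F, u = ζ := ⟨_, rfl⟩
  have hu0 : u ≠ 0 := hu ▸ ζ.ne_zero
  have hu1 : u ≠ 1 := fun e => hζ1 (Units.ext (by rw [← hu, e, Units.val_one]))
  have hu1' : u + 1 ≠ 0 := fun e => hu1 (by linear_combination e - h2)
  obtain ⟨β, hβ⟩ : ∃ β, β = u / (u + 1) := ⟨_, rfl⟩
  have hβ' : β * (u + 1) = u := by rw [hβ]; field_simp
  have hβ0 : β ≠ 0 := fun e => hu0 (by rw [e, zero_mul] at hβ'; exact hβ'.symm)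
  have hβ1 : β - 1 ≠ 0 := fun e => one_ne_zero (α := F) (by linear_combination hβ' - (u + 1) * e)
  obtain ⟨x2, hx2⟩ : ∃ x : SL(2, F), (x : Matrix (Fin 2) (Fin 2) F) = !![0, -1; 1, 0] :=
    ⟨⟨!![0, -1; 1, 0], by simp [Matrix.det_fin_two]⟩, rfl⟩
  obtain ⟨x5, hx5⟩ : ∃ x : SL(2, F), (x : Matrix (Fin 2) (Fin 2) F) = !![u, 0; β, u⁻¹] :=
    ⟨⟨!![u, 0; β, u⁻¹], by simp [Matrix.det_fin_two, hu0]⟩, rfl⟩
  have hone : pr (dS (1 : Fˣ)) ∈ H := by rw [dS_one]; exact one_mem H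
  obtain ⟨g, hg⟩ := hB 4
    ![(pr (1 : SL(2, F)) : PSL₂ ⧸ H), pr x2, pr (lS (1 : F)), pr (lS β)] ![(pr (1 : SL(2, F)) : PSL₂ ⧸ H), pr x2, pr (lS (1 : F)), pr x5]
    (by norm_num) fun i j hij => by
      obtain ⟨G1, hG1⟩ : ∃ g : SL(2, F), (g : Matrix (Fin 2) (Fin 2) F) = !![1, (u - 1) / β; 0, 1] :=
        ⟨⟨!![1, (u - 1) / β; 0, 1], by simp [Matrix.det_fin_two]⟩, rfl⟩
      obtain ⟨G2, hG2⟩ : ∃ g : SL(2, F), (g : Matrix (Fin 2) (Fin 2) F) = !![1, 0; β / u - β, 1] :=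
        ⟨⟨!![1, 0; β / u - β, 1], by simp [Matrix.det_fin_two]⟩, rfl⟩
      obtain ⟨q, hq⟩ : ∃ q, q = (u⁻¹ - 1) / (β - 1) := ⟨_, rfl⟩
      obtain ⟨s, hs⟩ : ∃ s, s = (β / u ^ 2 - 1) / (β - 1) := ⟨_, rfl⟩
      have hdet : s - q = 1 := by
        rw [hs, hq, div_sub_div_same, div_eq_one_iff_eq hβ1]
        field_simp
        linear_combination (1 - u) * hβ'
      obtain ⟨G3, hG3⟩ : ∃ g : SL(2, F), (g : Matrix (Fin 2) (Fin 2) F) = !![1 - q, q; 1 - s, s] :=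
        ⟨⟨!![1 - q, q; 1 - s, s], by simp [Matrix.det_fin_two]; linear_combination hdet⟩, rfl⟩
      have hζ' : pr (dS ζ⁻¹) ∈ H := by
        rw [show dS ζ⁻¹ = (dS ζ)⁻¹ from (inv_eq_of_mul_eq_one_right (by rw [← dS_mul, mul_inv_cancel, dS_one])).symm]
        exact inv_mem hζ
      have hζ2 : pr (dS (ζ⁻¹ * ζ⁻¹)) ∈ H := by rw [dS_mul]; exact mul_mem hζ' hζ'
      have p1 : pr G1 • (pr (1 : SL(2, F)) : PSL₂ ⧸ H) = pr (1 : SL(2, F)) :=
        hcrit 1 hone fun i => by fin_cases i <;> simp [hG1]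
      have p1' : pr G1 • (pr (lS β) : PSL₂ ⧸ H) = pr x5 :=
        hcrit 1 hone fun i => by fin_cases i <;> simp [hG1, hx5, lS_coe, Matrix.mul_apply, Fin.sum_univ_two, hβ0]
      have p2 : pr G2 • (pr x2 : PSL₂ ⧸ H) = pr x2 :=
        hcrit 1 hone fun i => by fin_cases i <;> simp [hG2, hx2, Matrix.mul_apply, Fin.sum_univ_two]
      have p2' : pr G2 • (pr (lS β) : PSL₂ ⧸ H) = pr x5 :=
        hcrit ζ⁻¹ hζ' fun i => by
          fin_cases i <;> simp [hG2, hx5, lS_coe, Matrix.mul_apply, Fin.sum_univ_two, ← hu, hu0] <;> field_simp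
      have p3 : pr G3 • (pr (lS (1 : F)) : PSL₂ ⧸ H) = pr (lS (1 : F)) :=
        hcrit 1 hone fun i => by fin_cases i <;> simp [hG3, lS_coe, Matrix.mul_apply, Fin.sum_univ_two]
      have p3' : pr G3 • (pr (lS β) : PSL₂ ⧸ H) = pr x5 :=
        hcrit (ζ⁻¹ * ζ⁻¹) hζ2 fun i => by
          fin_cases i <;> simp [hG3, hx5, lS_coe, Matrix.mul_apply, Fin.sum_univ_two, ← hu, hq, hs] <;>
            field_simp <;> ring
      fin_cases i <;> fin_cases j
      all_goals first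
        | exact absurd rfl hij
        | exact ⟨pr G1, p1, p1'⟩
        | exact ⟨pr G1, p1', p1⟩
        | exact ⟨pr G2, p2, p2'⟩
        | exact ⟨pr G2, p2', p2⟩
        | exact ⟨pr G3, p3, p3'⟩
        | exact ⟨pr G3, p3', p3⟩
        | exact ⟨1, one_smul PSL₂ _, one_smul PSL₂ _⟩
  obtain ⟨x, rfl⟩ := QuotientGroup.mk_surjective g
  have hinv : ∀ {a b : SL(2, F)}, pr x • (pr a : PSL₂ ⧸ H) = (pr b : PSL₂ ⧸ H) →
      ∃ l : F, l ≠ 0 ∧ ∀ i, ((x * a : SL(2, F)) : Matrix (Fin 2) (Fin 2) F) i 0 = l * b.1 i 0 := fun {a b} h => by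
    rw [MulAction.Quotient.smul_coe, smul_eq_mul, eq_comm, QuotientGroup.eq] at h
    obtain ⟨l, t, hlt, -⟩ := eq_dS_uS (upper_of_transvections h2 hH hU (x := b⁻¹ * (x * a)) h)
    refine ⟨l, l.ne_zero, fun i => ?_⟩
    rw [show x * a = b * (dS l * uS t) by rw [← hlt, mul_inv_cancel_left]]
    simp [Matrix.mul_apply, Fin.sum_univ_two, dS_coe, uS_coe, mul_comm]
  obtain ⟨l0, -, e0⟩ := hinv (hg 0)
  obtain ⟨l1, -, e1⟩ := hinv (hg 1)
  obtain ⟨l2, -, e2⟩ := hinv (hg 2)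
  obtain ⟨l3, -, e3⟩ := hinv (hg 3)
  have a0 := e0 0; have a1 := e0 1; have b0 := e1 0; have b1 := e1 1
  have c0 := e2 0; have c1 := e2 1; have d0 := e3 0; have d1 := e3 1
  simp [hx2, hx5, lS_coe, Matrix.mul_apply, Fin.sum_univ_two] at a0 a1 b0 b1 c0 c1 d0 d1
  have hdx := det_eq x
  rw [b0, a1, mul_zero, sub_zero] at hdx
  rw [a1, zero_add] at c1
  rw [b0, add_zero] at c0
  rw [a1, zero_add] at d1
  rw [b0, zero_mul, add_zero] at d0
  have k1 : x.1 1 1 = x.1 0 0 := by linear_combination c1 - c0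
  have k2 : (x.1 0 0 - 1) ^ 2 = 0 := by
    rw [k1] at hdx
    linear_combination hdx + (1 - x.1 0 0) * h2
  have k3 : x.1 0 0 = 1 := sub_eq_zero.1 (eq_zero_of_pow_eq_zero k2)
  rw [k1, k3] at d1
  rw [k3] at d0
  simp at d0 d1
  have : l3 = 1 := mul_right_cancel₀ hβ0 (by linear_combination -d1)
  exact hu1 (by rw [this] at d0; linear_combination -d0)

/-- A point stabiliser of even order in characteristic two, normalised. -/
theorem eq_upU_of_binary_even (h2 : (2 : F) = 0) (hF : 4 ≤ Fintype.card F) {H : Subgroup PSL₂} (hH : H ≠ ⊤)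
    (h1 : pr (uS (1 : F)) ∈ H) (hB : Binary PSL₂ (PSL₂ ⧸ H)) : H = upU F := by
  classical
  have := charTwo h2
  by_cases hU : ∀ t, pr (uS t) ∈ H
  · exact eq_upU_of_binary h2 hH hU hB
  exfalso
  push Not at hU
  obtain ⟨α, hα⟩ := hU
  obtain ⟨E, hE⟩ : ∃ E : AddSubgroup F, ∀ t, t ∈ E ↔ pr (uS t) ∈ H :=
    ⟨{ carrier := {t | pr (uS t) ∈ H}
       zero_mem' := by show pr (uS (0 : F)) ∈ H; rw [uS_zero]; exact one_mem H
       add_mem' := fun {s t} (hs : pr (uS s) ∈ H) (ht : pr (uS t) ∈ H) => by show pr (uS (s + t)) ∈ H; rw [uS_add]; exact mul_mem hs ht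
       neg_mem' := fun {t} (ht : pr (uS t) ∈ H) => by show pr (uS (-t)) ∈ H; rw [← uS_inv]; exact inv_mem ht },
     fun _ => Iff.rfl⟩
  have hαE : α ∉ E := fun h => hα ((hE α).1 h)
  have h1E : (1 : F) ∈ E := (hE 1).2 h1
  have hα0 : α ≠ 0 := fun e => hαE (e ▸ E.zero_mem)
  have hα1 : α + 1 ≠ 0 := fun e => hαE (by rw [show α = -1 by linear_combination e]; exact E.neg_mem h1E)
  obtain ⟨a, ha⟩ : ∃ a : PSL₂, a = pr (uS α) := ⟨_, rfl⟩
  obtain ⟨b, hb⟩ : ∃ b : PSL₂, b = pr (uS (α + 1)) := ⟨_, rfl⟩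
  obtain ⟨z, hz⟩ : ∃ z : PSL₂ ⧸ H, z = ((1 : PSL₂) : PSL₂ ⧸ H) := ⟨_, rfl⟩
  refine not_binary_set a b z ?_ (fun g hga hgb hgz => ?_) hB
  · rw [hz, smul_one_eq_iff, ha, hb]
    show pr ((uS α)⁻¹ * uS (α + 1)) ∈ H
    rw [uS_add, inv_mul_cancel_left]
    exact h1
  obtain ⟨X, hX⟩ : ∃ X, X = fixer (PSL₂ ⧸ H) a ⊓ fixer (PSL₂ ⧸ H) b := ⟨_, rfl⟩
  -- points fixed by transvections
  have hpt : ∀ (r : F) (l : Fˣ), pr (uS r) • ((pr (dS l) : PSL₂) : PSL₂ ⧸ H) = (pr (dS l) : PSL₂) ↔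
      r / (l : F) ^ 2 ∈ E := fun r l => by
    rw [smul_coe_eq_iff, hE]
    show pr ((dS l)⁻¹ * uS r * dS l) ∈ H ↔ _
    have e : (dS l)⁻¹ * uS r * dS l = uS (r / (l : F) ^ 2) := by
      rw [show dS l = (dS l⁻¹)⁻¹ from (inv_eq_of_mul_eq_one_left (by rw [← dS_mul, mul_inv_cancel, dS_one])).symm,
        inv_inv, dS_conj_uS]
      congr 1
      rw [Units.val_inv_eq_inv_val, inv_pow, div_eq_mul_inv, mul_comm]
    rw [e]
  have hmul : ∀ (s r : F), r ≠ 0 → pr (uS s) ∈ fixer (PSL₂ ⧸ H) (pr (uS r)) → ∀ e ∈ E, s / r * e ∈ E := by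
    intro s r hr hs e he
    by_cases he0 : e = 0
    · rw [he0, mul_zero]; exact E.zero_mem
    obtain ⟨l, hl⟩ := exists_sq h2 (r / e)
    have hl0 : l ≠ 0 := fun h => by
      rw [h, zero_pow two_ne_zero, eq_comm, div_eq_zero_iff] at hl
      exact hl.elim hr he0
    have h := mem_fixer.1 hs _ ((hpt r (Units.mk0 l hl0)).2 (by
      rw [Units.val_mk0, hl, div_div_eq_mul_div, mul_div_cancel_left₀ _ hr]; exact he))
    have := (hpt s _).1 h
    rwa [Units.val_mk0, hl, div_div_eq_mul_div, mul_comm s, mul_div_assoc, mul_comm] at this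
  have hXu : ∀ s, pr (uS s) ∈ X → s = 0 := fun s hs => by
    by_contra hs0
    rw [hX, Subgroup.mem_inf, ha, hb] at hs
    have hx := hmul s α hα0 hs.1
    have hy := hmul s (α + 1) hα1 hs.2
    obtain ⟨d, hd⟩ : ∃ d, d = s / α - s / (α + 1) := ⟨_, rfl⟩
    have hde : ∀ e ∈ E, d * e ∈ E := fun e he => by rw [hd, sub_mul]; exact E.sub_mem (hx e he) (hy e he)
    have hd' : d * α = s / (α + 1) := by rw [hd]; field_simp; ring
    have hd0 : d ≠ 0 := fun e => by rw [e, zero_mul, eq_comm, div_eq_zero_iff] at hd'; exact hd'.elim hs0 hα1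
    obtain ⟨e, he⟩ := Finite.surjective_of_injective (f := fun e : E => (⟨d * e.1, hde _ e.2⟩ : E))
      (fun e f h => Subtype.ext (mul_left_cancel₀ hd0 (congrArg Subtype.val h)))
      ⟨s / (α + 1), by simpa using hy 1 h1E⟩
    have he' : d * e.1 = d * α := by rw [hd']; exact congrArg Subtype.val he
    exact hαE (mul_left_cancel₀ hd0 he' ▸ e.2)
  have hnorm : ∀ t, pr (uS t) ∈ Subgroup.normalizer (X : Set PSL₂) := by
    intro t
    refine Subgroup.mem_normalizer_iff.2 fun k => ⟨fun hk => ?_, fun hk => ?_⟩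
    · rw [hX, Subgroup.mem_inf] at hk ⊢
      refine ⟨?_, ?_⟩
      · have := conj_mem_fixer (pr (uS t)) hk.1
        rwa [show pr (uS t) * a * (pr (uS t))⁻¹ = a by
          rw [ha]; show pr (uS t * uS α * (uS t)⁻¹) = _; rw [← uS_add, uS_inv, ← uS_add]; congr 2; ring] at this
      · have := conj_mem_fixer (pr (uS t)) hk.2
        rwa [show pr (uS t) * b * (pr (uS t))⁻¹ = b by
          rw [hb]; show pr (uS t * uS (α + 1) * (uS t)⁻¹) = _; rw [← uS_add, uS_inv, ← uS_add]; congr 2; ring] at this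
    · rw [hX, Subgroup.mem_inf] at hk ⊢
      refine ⟨?_, ?_⟩
      · have := conj_mem_fixer (pr (uS t))⁻¹ hk.1
        rwa [show (pr (uS t))⁻¹ * (pr (uS t) * k * (pr (uS t))⁻¹) * (pr (uS t))⁻¹⁻¹ = k by group,
          show (pr (uS t))⁻¹ * a * (pr (uS t))⁻¹⁻¹ = a by
          rw [inv_inv, ha]; show pr ((uS t)⁻¹ * uS α * uS t) = _; rw [uS_inv, ← uS_add, ← uS_add]; congr 2; ring] at this
      · have := conj_mem_fixer (pr (uS t))⁻¹ hk.2
        rwa [show (pr (uS t))⁻¹ * (pr (uS t) * k * (pr (uS t))⁻¹) * (pr (uS t))⁻¹⁻¹ = k by group,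
          show (pr (uS t))⁻¹ * b * (pr (uS t))⁻¹⁻¹ = b by
          rw [inv_inv, hb]; show pr ((uS t)⁻¹ * uS (α + 1) * uS t) = _; rw [uS_inv, ← uS_add, ← uS_add]; congr 2; ring] at this
  have hg : g = 1 := by
    have hgX : g ∈ X := by rw [hX]; exact ⟨hga, hgb⟩
    by_contra hg1
    obtain ⟨K, hK⟩ : ∃ K, K = X ⊔ upU F := ⟨_, rfl⟩
    have hKU : ∀ t, pr (uS t) ∈ K := fun t => by rw [hK]; exact Subgroup.mem_sup_right (mem_upU.2 ⟨t, rfl⟩)
    by_cases hKt : K = ⊤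
    · have hsimple : IsSimpleGroup PSL₂ := isSimpleGroup_PSL_two hF
      have hN : X.Normal := by
        refine Subgroup.normalizer_eq_top_iff.1 (top_le_iff.1 (hKt ▸ hK ▸ sup_le Subgroup.le_normalizer ?_))
        rintro _ ⟨t, rfl⟩
        exact hnorm t
      rcases hN.eq_bot_or_eq_top with h | h
      · exact hg1 (Subgroup.mem_bot.1 (h ▸ hgX))
      · exact one_ne_zero (α := F) (hXu 1 (h ▸ Subgroup.mem_top _))
    obtain ⟨x, rfl⟩ := QuotientGroup.mk_surjective g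
    have hx10 := upper_of_transvections h2 hKt hKU (x := x) (by rw [hK]; exact Subgroup.mem_sup_left hgX)
    obtain ⟨l, t, rfl, -⟩ := eq_dS_uS hx10
    have hcom : pr (uS ((l : F) ^ 2 - 1)) ∈ X := by
      have e : uS ((l : F) ^ 2 - 1) = dS l * uS t * uS 1 * (dS l * uS t)⁻¹ * (uS (1 : F))⁻¹ := by
        rw [show dS l * uS t * uS 1 * (dS l * uS t)⁻¹ = dS l * (uS t * uS 1 * (uS t)⁻¹) * (dS l)⁻¹ by group,
          uS_inv, uS_inv, ← uS_add, ← uS_add, show t + 1 + -t = (1 : F) by ring, dS_conj_uS, ← uS_add]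
        congr 1; ring
      have h3 := mul_mem hgX ((Subgroup.mem_normalizer_iff.1 (hnorm 1) _).1 (inv_mem hgX))
      rw [e]
      rw [← mul_assoc, ← mul_assoc] at h3
      exact h3
    have hl : l = 1 := Units.ext (sub_eq_zero.1 (eq_zero_of_pow_eq_zero (n := 2) (show ((l : F) - 1) ^ 2 = 0 by
      linear_combination hXu _ hcom + (1 - (l : F)) * h2)))
    rw [hl, dS_one, one_mul] at hgX hg1
    exact hg1 (by rw [hXu t hgX, uS_zero]; rfl)
  rw [hg, one_smul, hz] at hgz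
  exact hαE ((hE α).2 (ha ▸ smul_one_eq_iff.1 hgz.symm))

/-- The transvection group is a Sylow subgroup. -/
theorem card_upU : Nat.card (upU F) = Fintype.card F := by
  rw [← Nat.card_eq_fintype_card]
  refine (Nat.card_congr (Equiv.ofBijective (fun t => (⟨pr (uS t), mem_upU.2 ⟨t, rfl⟩⟩ : upU F)) ⟨fun s t h => ?_, fun g => ?_⟩)).symm
  · rcases pr_eq_iff.1 (congrArg Subtype.val h) with e | e
    · simpa [uS_coe] using (congrArg (fun u : SL(2, F) => u.1 0 1) e).symm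
    · have e1 := congrArg (fun u : SL(2, F) => u.1 0 0) e
      have e2 := congrArg (fun u : SL(2, F) => u.1 0 1) e
      simp [uS_coe] at e1 e2
      linear_combination -e2 + s * e1
  · obtain ⟨t, ht⟩ := mem_upU.1 g.2
    exact ⟨t, Subtype.ext ht.symm⟩

theorem exists_sylow_upU {a : ℕ} (hq : Fintype.card F = 2 ^ a) (ha : a ≠ 0) :
    ∃ P : Sylow 2 PSL₂, (P : Subgroup PSL₂) = upU F := by
  have hG := Dickson.gcd_mul_card_psl (F := F) hq
  have hev : 2 ∣ 2 ^ a := dvd_pow_self 2 ha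
  have hpos : 0 < 2 ^ a := Nat.two_pow_pos a
  rw [show Nat.gcd 2 (2 ^ a - 1) = 1 from Nat.coprime_two_left.2 (Nat.odd_iff.2 (by omega)), one_mul] at hG
  refine ⟨Sylow.ofCard (upU F) ?_, Sylow.coe_ofCard _ _⟩
  rw [card_upU, hq, hG, Nat.factorization_mul hpos.ne' (by
    have : 4 ≤ (2 ^ a) ^ 2 := by rw [← pow_mul]; exact le_trans (le_of_eq (by norm_num)) (Nat.pow_le_pow_right two_pos (show 2 ≤ a * 2 by omega))
    omega), Finsupp.add_apply, Nat.Prime.factorization_pow Nat.prime_two, Finsupp.single_eq_same,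
    Nat.factorization_eq_zero_of_not_dvd (n := (2 ^ a) ^ 2 - 1) (p := 2) (by
      have : 2 ∣ (2 ^ a) ^ 2 := dvd_pow hev two_ne_zero
      have : 1 ≤ (2 ^ a) ^ 2 := Nat.one_le_pow _ _ hpos
      omega), add_zero]

/-- Characteristic two, even order. -/
theorem binary_even_iff (h2 : (2 : F) = 0) (hF : 4 ≤ Fintype.card F) {a : ℕ} (hq : Fintype.card F = 2 ^ a)
    {H : Subgroup PSL₂} (hH : H ≠ ⊤) {c : PSL₂} (hc : c ∈ H) (hc2 : c ^ 2 = 1) (hc1 : c ≠ 1) :
    Binary PSL₂ (PSL₂ ⧸ H) ↔ ∃ P : Sylow 2 PSL₂, H = P := by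
  have ha : a ≠ 0 := fun e => by rw [e, pow_zero] at hq; omega
  obtain ⟨U, hU⟩ := exists_sylow_upU hq ha
  constructor
  · intro hB
    obtain ⟨m, hm⟩ := exists_conj_uS h2 hc2 hc1
    have e : H.map (MulAut.conj m).toMonoidHom = upU F := by
      refine eq_upU_of_binary_even h2 hF (fun e => hH (eq_top_iff.2 fun g _ => ?_)) ⟨c, hc, hm⟩
        ((binary_conj_iff H m).2 hB)
      have : m * g * m⁻¹ ∈ H.map (MulAut.conj m).toMonoidHom := e ▸ Subgroup.mem_top _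
      obtain ⟨u, hu, h⟩ := Subgroup.mem_map.1 this
      simp only [MulEquiv.coe_toMonoidHom, MulAut.conj_apply, mul_left_inj, mul_right_inj] at h
      exact h ▸ hu
    refine ⟨m⁻¹ • U, ?_⟩
    rw [Sylow.coe_subgroup_smul, hU, ← e]
    ext g
    simp [Subgroup.mem_pointwise_smul_iff_inv_smul_mem, Subgroup.mem_map, mul_assoc]
  · rintro ⟨P, rfl⟩
    obtain ⟨m, hm⟩ := MulAction.exists_smul_eq PSL₂ P U
    rw [← binary_conj_iff (P : Subgroup PSL₂) m]
    have : (P : Subgroup PSL₂).map (MulAut.conj m).toMonoidHom = upU F := by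
      rw [← hU, ← hm, Sylow.coe_subgroup_smul]
      ext g
      simp [Subgroup.mem_pointwise_smul_iff_inv_smul_mem, Subgroup.mem_map, mul_assoc]
      constructor
      · rintro ⟨x, hx, rfl⟩
        simpa [mul_assoc] using hx
      · intro h
        exact ⟨_, h, by simp [mul_assoc]⟩
    rw [this]
    exact binary_upU h2

end CfsgLib.Lie.BinaryPSL
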