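import Cfsg.Agent.Lib.Lie.BinaryPSL.Subgroups

/-!
# Commuting involutions in `PSL₂`, odd characteristic
-/

set_option autoImplicit false

namespace CfsgLib.Lie.BinaryPSL

open Matrix
open CfsgLib.Classical CfsgLib.Classical.Trace
open scoped MatrixGroups LinearAlgebra.Projectivization

variable {F : Type*} [Field F]

local notation "PSL₂" => Matrix.ProjectiveSpecialLinearGroup (Fin 2) F

theorem mat_sq {A : SL(2, F)} (h : trc A = 0) :
    (A : Matrix (Fin 2) (Fin 2) F) * A = -1 := by rw [sq_eq, h, zero_smul, zero_sub]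

theorem det_one_add {A : SL(2, F)} (h : trc A = 0) : (1 + (A : Matrix (Fin 2) (Fin 2) F)).det = 2 := by
  have hd := det_eq A
  rw [trc] at h
  simp [Matrix.det_fin_two]
  linear_combination hd + h

theorem not_commute_of_anti (h2 : (2 : F) ≠ 0) {A B : SL(2, F)} (h : A * B = -(B * A)) : A * B ≠ B * A := by
  intro h'
  obtain ⟨u, hu⟩ : ∃ u, u = B * A := ⟨_, rfl⟩
  rw [← hu] at h h'
  have e : u = -u := h'.symm.trans h
  have hd := det_eq u
  have e' : ∀ i j, u.1 i j = 0 := fun i j => (mul_eq_zero.1 (show (2 : F) * u.1 i j = 0 by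
    have := congrArg (fun v : SL(2, F) => v.1 i j) e
    simp at this
    linear_combination this)).resolve_left h2
  rw [e', e', e'] at hd
  simp at hd

/-- The element cycling three commuting involutions. -/
theorem exists_three_cycle (h2 : (2 : F) ≠ 0) {a b : PSL₂} (ha : a ^ 2 = 1) (ha1 : a ≠ 1) (hb : b ^ 2 = 1)
    (hb1 : b ≠ 1) (hab : Commute a b) (hne : a ≠ b) :
    ∃ m : PSL₂, m * a * m⁻¹ = b ∧ m * b * m⁻¹ = a * b ∧ m * (a * b) * m⁻¹ = a := by
  obtain ⟨A, rfl⟩ := QuotientGroup.mk_surjective a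
  obtain ⟨B, rfl⟩ := QuotientGroup.mk_surjective b
  have hanti := anticommute h2 ha ha1 hb hb1 hab hne
  obtain ⟨X, hX⟩ : ∃ X, X = (A : Matrix (Fin 2) (Fin 2) F) := ⟨_, rfl⟩
  obtain ⟨Y, hY⟩ : ∃ Y, Y = (B : Matrix (Fin 2) (Fin 2) F) := ⟨_, rfl⟩
  have hXt := trc_eq_zero_of_sq h2 ha1 ha
  have hYt := trc_eq_zero_of_sq h2 hb1 hb
  have hXX : X * X = -1 := by rw [hX, mat_sq hXt]
  have hYY : Y * Y = -1 := by rw [hY, mat_sq hYt]
  have hYX : Y * X = -(X * Y) := by
    rw [hX, hY, ← Matrix.SpecialLinearGroup.coe_mul, ← Matrix.SpecialLinearGroup.coe_mul,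
      ← Matrix.SpecialLinearGroup.coe_neg, hanti, neg_neg]
  have hXX' : ∀ w, X * (X * w) = -w := fun w => by rw [← mul_assoc, hXX, neg_one_mul]
  have hYY' : ∀ w, Y * (Y * w) = -w := fun w => by rw [← mul_assoc, hYY, neg_one_mul]
  have hYX' : ∀ w, Y * (X * w) = -(X * (Y * w)) := fun w => by rw [← mul_assoc, hYX, neg_mul, mul_assoc]
  obtain ⟨M, hM⟩ : ∃ M : SL(2, F), (M : Matrix (Fin 2) (Fin 2) F) = (-(2 : F)⁻¹) • ((1 + X) * (1 + Y)) := by
    refine ⟨⟨_, ?_⟩, rfl⟩
    rw [Matrix.det_smul, Matrix.det_mul, hX, hY, det_one_add hXt, det_one_add hYt, Fintype.card_fin]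
    field_simp
  have e1 : M * A = B * M := by
    apply Subtype.ext
    show (M : Matrix (Fin 2) (Fin 2) F) * A = B * M
    rw [hM, ← hX, ← hY, smul_mul_assoc, mul_smul_comm]
    congr 1
    simp only [mul_add, add_mul, mul_one, one_mul, mul_assoc, hXX, hYY, hYX, hXX', hYY', hYX', neg_neg, mul_neg, neg_mul]
    abel
  have e2 : M * B = A * B * M := by
    apply Subtype.ext
    show (M : Matrix (Fin 2) (Fin 2) F) * B = A * B * M
    rw [hM, ← hX, ← hY, smul_mul_assoc, mul_smul_comm]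
    congr 1
    simp only [mul_add, add_mul, mul_one, one_mul, mul_assoc, hXX, hYY, hYX, hXX', hYY', hYX', neg_neg, mul_neg, neg_mul]
    abel
  have f1 : pr M * pr A * (pr M)⁻¹ = pr B := mul_inv_eq_iff_eq_mul.2 (congrArg pr e1)
  have f2 : pr M * pr B * (pr M)⁻¹ = pr A * pr B := mul_inv_eq_iff_eq_mul.2 (congrArg pr e2)
  refine ⟨pr M, f1, f2, ?_⟩
  rw [← conj_mul, f1, f2, hab.eq, ← mul_assoc, ← pow_two, hb, one_mul]

/-- The common centraliser of two commuting involutions. -/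
theorem klein_centralizer (h2 : (2 : F) ≠ 0) {a b g : PSL₂} (ha : a ^ 2 = 1) (ha1 : a ≠ 1) (hb : b ^ 2 = 1)
    (hb1 : b ≠ 1) (hab : Commute a b) (hne : a ≠ b) (hga : g * a = a * g) (hgb : g * b = b * g) :
    g = 1 ∨ g = a ∨ g = b ∨ g = a * b := by
  obtain ⟨A, rfl⟩ := QuotientGroup.mk_surjective a
  obtain ⟨B, rfl⟩ := QuotientGroup.mk_surjective b
  obtain ⟨G, rfl⟩ := QuotientGroup.mk_surjective g
  have hanti := anticommute h2 ha ha1 hb hb1 hab hne
  have hBA : B * A = -(A * B) := by rw [hanti, neg_neg]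
  have key : ∀ X : SL(2, F), G * X * A = A * (G * X) → G * X * B = B * (G * X) → pr G = (pr X)⁻¹ := by
    intro X h1 h3
    rw [eq_inv_iff_mul_eq_one]
    exact pr_eq_one_iff.2 (by_contra fun hns => not_commute_of_anti h2 hanti (commute_of_commute hns h1 h3))
  have hAi : (pr A)⁻¹ = pr A := inv_eq_of_mul_eq_one_right (by rw [← pow_two, ha])
  have hBi : (pr B)⁻¹ = pr B := inv_eq_of_mul_eq_one_right (by rw [← pow_two, hb])
  have mv : ∀ {u v : SL(2, F)}, u * v = -(v * u) → ∀ w, u * (v * w) = -(v * (u * w)) := fun h w => by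
    rw [← mul_assoc, h, neg_mul, mul_assoc]
  have mv' : ∀ {u v : SL(2, F)}, u * v = v * u → ∀ w, u * (v * w) = v * (u * w) := fun h w => by
    rw [← mul_assoc, h, mul_assoc]
  have hBA' := mv hBA
  rcases pr_commute (show Commute (pr G) (pr A) from hga) with h1 | h1 <;>
    rcases pr_commute (show Commute (pr G) (pr B) from hgb) with h3 | h3
  · exact Or.inl ((key 1 (by simp [h1]) (by simp [h3])).trans inv_one)
  · have hA' := mv' h1.symm
    have hB0 : B * G = -(G * B) := by rw [h3, neg_neg]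
    have hB' := mv hB0
    refine Or.inr (Or.inl ((key A ?_ ?_).trans hAi)) <;>
      simp only [mul_assoc, hA', hB', hBA, hBA', mul_neg, neg_neg, neg_mul]
  · have hA0 : A * G = -(G * A) := by rw [h1, neg_neg]
    have hA' := mv hA0
    have hB' := mv' h3.symm
    refine Or.inr (Or.inr (Or.inl ((key B ?_ ?_).trans hBi))) <;>
      simp only [mul_assoc, hA', hB', hBA, hBA', mul_neg, neg_neg, neg_mul]
  · have hA0 : A * G = -(G * A) := by rw [h1, neg_neg]
    have hB0 : B * G = -(G * B) := by rw [h3, neg_neg]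
    have hA' := mv hA0
    have hB' := mv hB0
    refine Or.inr (Or.inr (Or.inr ((key (A * B) ?_ ?_).trans ?_))) <;>
      first
      | (show (pr A * pr B)⁻¹ = pr A * pr B
         rw [_root_.mul_inv_rev, hAi, hBi, hab.eq])
      | simp only [mul_assoc, hA', hB', hBA, hBA', mul_neg, neg_neg, neg_mul]

end CfsgLib.Lie.BinaryPSL
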