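import Cfsg.Agent.Lib.Lie.BinaryPSL.Positive
import Cfsg.Agent.Lib.Classical.Dickson.PSL

/-!
# Point stabilisers of odd order
-/

set_option autoImplicit false

namespace CfsgLib.Lie.BinaryPSL

open Matrix
open CfsgLib.Classical CfsgLib.Classical.Trace
open scoped MatrixGroups LinearAlgebra.Projectivization

variable {F : Type*} [Field F] [Fintype F]

local notation "PSL₂" => Matrix.ProjectiveSpecialLinearGroup (Fin 2) F

omit [Fintype F] in
theorem involution_not_mem [Finite F] {H : Subgroup PSL₂} (hodd : Odd (Nat.card H)) {g : PSL₂} (hg : g ∈ H)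
    (h2 : g ^ 2 = 1) : g = 1 := by
  by_contra h1
  have h := Subgroup.orderOf_dvd_natCard H hg
  rw [orderOf_eq_prime h2 h1] at h
  exact Nat.not_even_iff_odd.2 hodd (even_iff_two_dvd.2 h)

omit [Fintype F] in
theorem smul_pr_coe_iff {H : Subgroup PSL₂} {g x : SL(2, F)} :
    pr g • (pr x : PSL₂ ⧸ H) = (pr x : PSL₂ ⧸ H) ↔ pr (x⁻¹ * g * x) ∈ H := smul_coe_eq_iff

omit [Fintype F] in
theorem smul_pr_coe_smul_iff {H : Subgroup PSL₂} {g a x : SL(2, F)} :
    pr g • (pr x : PSL₂ ⧸ H) = pr a • (pr x : PSL₂ ⧸ H) ↔ pr (x⁻¹ * (a⁻¹ * g) * x) ∈ H := smul_coe_eq_smul_iff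

/-- A triangular subgroup with a transvection. -/
theorem not_binary_upper (p : ℕ) [Fact p.Prime] [CharP F p] (h2 : (2 : F) ≠ 0) {H : Subgroup PSL₂}
    (hodd : Odd (Nat.card H)) (hup : ∀ x : SL(2, F), pr x ∈ H → x.1 1 0 = 0) (hp : p ∣ Nat.card H) :
    ¬ Binary PSL₂ (PSL₂ ⧸ H) := by
  obtain ⟨⟨u, hu⟩, huo⟩ := exists_prime_orderOf_dvd_card' (G := H) p hp
  obtain ⟨Y, rfl⟩ := QuotientGroup.mk_surjective u
  have hY := hup Y hu
  have hne : pr Y ≠ 1 := fun e => by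
    rw [show (⟨pr Y, hu⟩ : H) = 1 from Subtype.ext e, orderOf_one] at huo
    exact (Fact.out : p.Prime).one_lt.ne huo
  have hpow : pr (Y ^ p) = 1 := by
    have := pow_orderOf_eq_one (⟨pr Y, hu⟩ : H)
    rw [huo] at this
    exact congrArg Subtype.val this
  obtain ⟨t, ht, ht0⟩ : ∃ t, pr (uS t) ∈ H ∧ t ≠ 0 := by
    have hd := det_eq Y
    rw [hY, mul_zero, sub_zero] at hd
    have hpow00 : ∀ n, (Y ^ n).1 0 0 = Y.1 0 0 ^ n ∧ (Y ^ n).1 1 0 = 0 := by
      intro n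
      induction n with
      | zero => simp
      | succ n ih =>
        rw [pow_succ, Matrix.SpecialLinearGroup.coe_mul, Matrix.mul_apply, Matrix.mul_apply, Fin.sum_univ_two,
          Fin.sum_univ_two, hY, ih.1, ih.2]
        exact ⟨by ring, by ring⟩
    have h1 : (Y.1 0 0 ^ p) ^ 2 = 1 := by
      rcases eq_of_isScalar (pr_eq_one_iff.1 hpow) with e | e <;>
        rw [← (hpow00 p).1, e] <;> simp
    have hl : Y.1 0 0 ^ 2 = 1 := by
      rw [← pow_mul, mul_comm, pow_mul] at h1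
      refine sub_eq_zero.1 (eq_zero_of_pow_eq_zero (n := p) ?_)
      rw [sub_pow_char, h1, one_pow, sub_self]
    have hp1 : ∀ X : SL(2, F), X.1 0 0 = 1 → X.1 1 0 = 0 → pr X = pr Y → ∃ t, pr (uS t) ∈ H ∧ t ≠ 0 := by
      intro X h0 h10 hX
      have hdX := det_eq X
      rw [h0, h10] at hdX
      have e : X = uS (X.1 0 1) := ext_sl fun i j => by
        fin_cases i <;> fin_cases j <;> simp [uS_coe, h0, h10]
        linear_combination hdX
      refine ⟨X.1 0 1, by rw [← e, hX]; exact hu, fun h => hne ?_⟩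
      rw [← hX, e, h, uS_zero]; rfl
    rcases sq_eq_one_iff.1 hl with e | e
    · exact hp1 Y e hY rfl
    · exact hp1 (-Y) (by simp [e]) (by simp [hY]) (pr_neg Y)
  obtain ⟨g0, hg0⟩ : ∃ g : SL(2, F), (g : Matrix (Fin 2) (Fin 2) F) = !![0, -(t / 2); 2 / t, 0] :=
    ⟨⟨!![0, -(t / 2); 2 / t, 0], by simp [Matrix.det_fin_two]; field_simp⟩, rfl⟩
  refine not_binary_three (pr (uS t)) (pr (lS (4 / t))) ((pr (1 : SL(2, F)) : PSL₂) : PSL₂ ⧸ H) (pr g0 : PSL₂ ⧸ H)
    (pr (lS (-2 / t)) : PSL₂ ⧸ H) ?_ ?_ ?_ fun g hgx hgy hgz => ?_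
  · rw [smul_pr_coe_iff, inv_one, one_mul, mul_one]; exact ht
  · rw [smul_pr_coe_iff]
    have e : g0⁻¹ * lS (4 / t) * g0 = (uS t)⁻¹ := by
      rw [mul_assoc, inv_mul_eq_iff_eq_mul, uS_inv]
      refine ext_sl fun i j => ?_
      fin_cases i <;> fin_cases j <;> simp [uS_coe, lS_coe, hg0, Matrix.mul_apply, Fin.sum_univ_two] <;> field_simp
      all_goals ring
    rw [e]; exact inv_mem ht
  · show pr ((uS t)⁻¹ * lS (4 / t)) • _ = _
    rw [smul_pr_coe_iff]
    have e : (lS (-2 / t))⁻¹ * ((uS t)⁻¹ * lS (4 / t)) * lS (-2 / t) = -uS t := by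
      rw [mul_assoc (lS (-2 / t))⁻¹, inv_mul_eq_iff_eq_mul, uS_inv]
      refine ext_sl fun i j => ?_
      fin_cases i <;> fin_cases j <;> simp [uS_coe, lS_coe, Matrix.mul_apply, Fin.sum_univ_two] <;> field_simp
      all_goals ring
    rw [e, pr_neg]; exact ht
  obtain ⟨G, rfl⟩ := QuotientGroup.mk_surjective g
  rw [smul_pr_coe_iff, inv_one, one_mul, mul_one] at hgx
  rw [smul_pr_coe_iff] at hgy
  rw [smul_pr_coe_smul_iff] at hgz
  have a10 := hup _ hgx
  have a01 := hup _ hgy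
  have az := hup _ hgz
  simp [uS_coe, lS_coe, hg0, Matrix.SpecialLinearGroup.coe_inv, Matrix.adjugate_fin_two, Matrix.mul_apply,
    Fin.sum_univ_two, a10, Matrix.vecMul, dotProduct] at a01 az
  have h01 : G.1 0 1 = 0 := by
    field_simp at a01
    simpa [ht0, h2] using a01
  have hd := det_eq G
  rw [a10, h01, mul_zero, sub_zero] at hd
  rw [h01] at az
  field_simp at az
  have hl : G.1 0 0 + G.1 1 1 = 0 :=
    (mul_eq_zero.1 (show (2 * t) * (G.1 0 0 + G.1 1 1) = 0 by linear_combination az)).resolve_left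
      (mul_ne_zero h2 ht0)
  have h11 : G.1 1 1 = -G.1 0 0 := by linear_combination hl
  have hsq : pr G ^ 2 = 1 := by
    rw [pow_two]
    show pr (G * G) = 1
    refine pr_eq_one_iff.2 ⟨?_, ?_, ?_⟩ <;> simp [Matrix.mul_apply, Fin.sum_univ_two, a10, h01, h11]
  obtain ⟨-, -, e⟩ := pr_eq_one_iff.1 (involution_not_mem hodd hgx hsq)
  have h0 : G.1 0 0 = 0 := (mul_eq_zero.1 (show (2 : F) * G.1 0 0 = 0 by
    linear_combination e + h11)).resolve_left h2
  rw [h0, zero_mul] at hd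
  exact zero_ne_one hd

/-- A cyclic subgroup with a triangle of conjugate generators that do not commute. -/
theorem not_binary_cyclic {H : Subgroup PSL₂} {T : SL(2, F)} (hgen : H = Subgroup.zpowers (pr T))
    (ht4 : trc T ^ 2 ≠ 4) (ht0 : (2 : F) = 0 ∨ trc T ≠ 0) {A B : SL(2, F)} (hA : trc A = trc T)
    (hB : trc B = trc T) (hC : trc (A⁻¹ * B) = trc T ∨ trc (A⁻¹ * B) = -trc T) (hAB : A * B ≠ B * A) :
    ¬ Binary PSL₂ (PSL₂ ⧸ H) := by
  obtain ⟨m1, hm1⟩ := exists_conj_pr ht4 (y := A) (Or.inl hA)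
  obtain ⟨m2, hm2⟩ := exists_conj_pr ht4 (y := B) (Or.inl hB)
  obtain ⟨m3, hm3⟩ := exists_conj_pr ht4 (y := A⁻¹ * B) hC
  have hT : pr T ∈ H := hgen ▸ Subgroup.mem_zpowers _
  have hfix : ∀ {m y : PSL₂}, m * pr T * m⁻¹ = y → y • (m : PSL₂ ⧸ H) = (m : PSL₂ ⧸ H) := fun {m y} h => by
    rw [smul_coe_eq_iff, ← h]; simpa [mul_assoc] using hT
  have hcom : ∀ {m y g : PSL₂}, m * pr T * m⁻¹ = y → g • (m : PSL₂ ⧸ H) = (m : PSL₂ ⧸ H) → Commute g y :=
    fun {m y g} h hg => by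
    rw [smul_coe_eq_iff, hgen] at hg
    obtain ⟨k, hk⟩ := Subgroup.mem_zpowers_iff.1 hg
    have e : g = m * pr T ^ k * m⁻¹ := by rw [hk]; group
    rw [e, ← h]
    exact ((Commute.refl (pr T)).zpow_left k).map (MulAut.conj m).toMonoidHom
  -- exact commutation of lifts
  have hlift : ∀ {G X : SL(2, F)}, trc X = trc T → Commute (pr G) (pr X) → G * X = X * G := fun {G X} hX h => by
    rcases pr_commute h with e | e
    · exact e
    · by_cases h0 : (2 : F) = 0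
      · rw [e, neg_eq_of_two h0]
      · exact absurd (hX ▸ trc_eq_zero_of_anti h0 (show X * G = -(G * X) by rw [e, neg_neg])) (ht0.resolve_left h0)
  refine not_binary_three (pr A) (pr B) (m1 : PSL₂ ⧸ H) (m2 : PSL₂ ⧸ H) (m3 : PSL₂ ⧸ H) (hfix hm1) (hfix hm2)
    (hfix hm3) fun g hgx hgy hgz => ?_
  obtain ⟨G, rfl⟩ := QuotientGroup.mk_surjective g
  have ga := hlift hA (hcom hm1 hgx)
  have gb := hlift hB (hcom hm2 hgy)
  by_cases hG : pr G = 1
  · rw [show (QuotientGroup.mk G : PSL₂) = 1 from hG, one_smul] at hgz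
    have hc := hcom hm3 hgz.symm
    rw [show pr (A⁻¹ * B) = (pr A)⁻¹ * pr B from rfl] at hc
    have hc' : Commute (pr A) (pr B) := by
      have := (Commute.refl (pr A)).mul_right hc
      rwa [mul_inv_cancel_left] at this
    exact hAB (hlift hB hc')
  · exact hAB (commute_of_commute (fun h => hG (pr_eq_one_iff.2 h)) ga gb)

end CfsgLib.Lie.BinaryPSL
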