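import Cfsg.Agent.Lib.Lie.BinaryPSL.OddEven
import Cfsg.Agent.Lib.Lie.BinaryPSL.EvenEven
import Cfsg.Agent.Lib.Lie.BinaryPSL.OddOrder

/-!
# The binary coset actions of `PSL₂`
-/

set_option autoImplicit false

namespace CfsgLib.Lie.BinaryPSL

open Matrix
open CfsgLib.Classical CfsgLib.Classical.Trace
open scoped MatrixGroups LinearAlgebra.Projectivization

variable {F : Type*} [Field F] [Fintype F]

local notation "PSL₂" => Matrix.ProjectiveSpecialLinearGroup (Fin 2) F

omit [Fintype F] in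
theorem exists_move_to_axis {v : Fin 2 → F} (hv : v ≠ 0) :
    ∃ g : SL(2, F), ∀ i, g.1 i 0 = v i := by
  by_cases h0 : v 0 = 0
  · have h1 : v 1 ≠ 0 := fun h => hv (funext fun i => by fin_cases i <;> simp [h0, h])
    refine ⟨⟨!![v 0, -(v 1)⁻¹; v 1, 0], by simp [Matrix.det_fin_two, h1]⟩, fun i => ?_⟩
    fin_cases i <;> simp
  · refine ⟨⟨!![v 0, 0; v 1, (v 0)⁻¹], by simp [Matrix.det_fin_two, h0]⟩, fun i => ?_⟩
    fin_cases i <;> simp

/-- A stabiliser of a point on the line containing a transvection. -/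
theorem not_binary_fixed (p : ℕ) [Fact p.Prime] [CharP F p] (h2 : (2 : F) ≠ 0) {H : Subgroup PSL₂}
    (hodd : Odd (Nat.card H)) (hp : p ∣ Nat.card H) {x : ℙ F (Fin 2 → F)} (hx : ∀ g ∈ H, g • x = x) :
    ¬ Binary PSL₂ (PSL₂ ⧸ H) := by
  induction x using Projectivization.ind with | _ v hv =>
  obtain ⟨g, hg⟩ := exists_move_to_axis hv
  rw [← binary_conj_iff H (pr g)⁻¹]
  have hcard : Nat.card (H.map (MulAut.conj (pr g)⁻¹).toMonoidHom) = Nat.card H :=
    (Nat.card_congr (H.equivMapOfInjective _ (MulAut.conj (pr g)⁻¹).injective).toEquiv).symm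
  refine not_binary_upper p h2 (hcard ▸ hodd) (fun y hy => ?_) (hcard ▸ hp)
  obtain ⟨u, hu, h⟩ := Subgroup.mem_map.1 hy
  obtain ⟨z, rfl⟩ := QuotientGroup.mk_surjective u
  have hz := hx _ hu
  rw [smul_pr_mk z hv (mulVec_ne_zero z hv), Projectivization.mk_eq_mk_iff'] at hz
  obtain ⟨μ, hμ⟩ := hz
  have h' : pr (g⁻¹ * z * g) = pr y := by
    rw [← h]
    simp only [MulEquiv.coe_toMonoidHom, MulAut.conj_apply, inv_inv]
    rfl
  have e : (g⁻¹ * z * g).1 1 0 = 0 := by
    have hgi : ∀ i, ((z * g : SL(2, F)) : Matrix (Fin 2) (Fin 2) F) i 0 = μ * g.1 i 0 := fun i => by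
      have := congrFun hμ i
      simp only [Pi.smul_apply, smul_eq_mul, Matrix.mulVec, dotProduct, ← hg] at this
      rw [Matrix.SpecialLinearGroup.coe_mul, Matrix.mul_apply, this]
    have e1 : ((g⁻¹ * g : SL(2, F)) : Matrix (Fin 2) (Fin 2) F) 1 0 = 0 := by
      rw [inv_mul_cancel, Matrix.SpecialLinearGroup.coe_one]; simp
    rw [Matrix.SpecialLinearGroup.coe_mul, Matrix.mul_apply, Fin.sum_univ_two] at e1
    rw [mul_assoc, Matrix.SpecialLinearGroup.coe_mul, Matrix.mul_apply, Fin.sum_univ_two, hgi, hgi]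
    linear_combination μ * e1
  rcases pr_eq_iff.1 h' with rfl | rfl
  · exact e
  · simpa using e

omit [Fintype F] in
theorem exists_trc (s : F) : ∃ g : SL(2, F), trc g = s ∧ ¬ IsScalar g := by
  refine ⟨⟨!![0, -1; 1, s], by simp [Matrix.det_fin_two]⟩, by simp [trc], fun h => ?_⟩
  simpa using h.2.1

theorem no_cube_root {a : ℕ} (ha : Odd a) (hq : Fintype.card F = 2 ^ a) (h2 : (2 : F) = 0) (w : F) :
    w ^ 2 + w + 1 ≠ 0 := by
  intro hw
  have h3 : w ^ 3 = 1 := by linear_combination (w - 1) * hw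
  have hw1 : w ≠ 1 := fun e => one_ne_zero (α := F) (by rw [e] at hw; linear_combination hw - h2)
  have hw0 : w ≠ 0 := fun e => by rw [e] at hw; simp at hw
  have hord : orderOf (Units.mk0 w hw0) = 3 := by
    have : Fact (Nat.Prime 3) := ⟨Nat.prime_three⟩
    refine orderOf_eq_prime (Units.ext ?_) fun e => hw1 ?_
    · simpa using h3
    · simpa using congrArg Units.val e
  have := orderOf_dvd_natCard (Units.mk0 w hw0)
  rw [hord, Nat.card_units, Nat.card_eq_fintype_card, hq] at this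
  obtain ⟨c, rfl⟩ := ha
  have h4 : 2 ^ (2 * c + 1) % 3 = 2 := by
    rw [pow_succ, pow_mul, Nat.mul_mod, Nat.pow_mod]; norm_num
  have hpos := Nat.two_pow_pos (2 * c + 1)
  generalize 2 ^ (2 * c + 1) = n at *
  omega

theorem exists_cube_root {a : ℕ} (ha : Even a) (hq : Fintype.card F = 2 ^ a) :
    ∃ w : F, w ^ 2 + w + 1 = 0 := by
  have : Fact (Nat.Prime 3) := ⟨Nat.prime_three⟩
  classical
  obtain ⟨c, rfl⟩ := ha
  obtain ⟨u, hu⟩ := exists_prime_orderOf_dvd_card' (G := Fˣ) 3 (by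
    rw [Nat.card_units, Nat.card_eq_fintype_card, hq, ← two_mul, pow_mul]
    have h4 : (2 ^ 2) ^ c % 3 = 1 := by rw [Nat.pow_mod]; norm_num
    have hpos : 0 < (2 ^ 2) ^ c := by positivity
    omega)
  have h3 : ((u : F)) ^ 3 = 1 := by rw [← Units.val_pow_eq_pow_val, ← hu, pow_orderOf_eq_one, Units.val_one]
  have h1 : (u : F) - 1 ≠ 0 := fun e => by
    rw [sub_eq_zero, Units.val_eq_one] at e
    rw [e, orderOf_one] at hu
    omega
  exact ⟨u, (mul_eq_zero.1 (show ((u : F) - 1) * ((u : F) ^ 2 + (u : F) + 1) = 0 by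
    linear_combination h3)).resolve_left h1⟩

/-- Subgroups of order three in even odd degree. -/
theorem binary_three {a : ℕ} (ha : Odd a) (hq : Fintype.card F = 2 ^ a) (h2 : (2 : F) = 0) {H : Subgroup PSL₂}
    (hH : Nat.card H = 3) : Binary PSL₂ (PSL₂ ⧸ H) := by
  have : Fact (Nat.Prime 3) := ⟨Nat.prime_three⟩
  have hcyc : ∀ u ∈ H, u ≠ 1 → ∀ v ∈ H, v ∈ Subgroup.zpowers u := fun u hu hu1 v hv => by
    have := mem_zpowers_of_prime_card (G := H) hH (g := ⟨u, hu⟩) (g' := ⟨v, hv⟩)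
      (fun e => hu1 (congrArg Subtype.val e))
    obtain ⟨k, hk⟩ := Subgroup.mem_zpowers_iff.1 this
    exact Subgroup.mem_zpowers_iff.2 ⟨k, congrArg Subtype.val hk⟩
  refine binary_of_triple H (fun p q g hg hgp hgq h hhp => ?_) fun p q r s t hs ht hr hs1 ht1 he => ?_
  · induction p using QuotientGroup.induction_on with | _ x =>
    rw [smul_coe_eq_iff] at hgp hhp
    obtain ⟨k, hk⟩ := Subgroup.mem_zpowers_iff.1
      (hcyc _ hgp (fun e => hg (by have := congrArg (fun u => x * u * x⁻¹) e; simpa [mul_assoc] using this)) _ hhp)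
    have e : h = g ^ k := by
      rw [show (x⁻¹ * g * x) ^ k = x⁻¹ * g ^ k * x by
        simpa using (map_zpow (MulAut.conj x⁻¹).toMonoidHom g k).symm] at hk
      exact (mul_left_cancel (mul_right_cancel hk)).symm
    rw [e]
    exact (MulAction.stabilizer PSL₂ q).zpow_mem hgq k
  · have htr : ∀ (u : SL(2, F)) (w : PSL₂ ⧸ H), pr u • w = w → pr u ≠ 1 → trc u = 1 := fun u w hu h1 => by
      induction w using QuotientGroup.induction_on with | _ x =>
      rw [smul_coe_eq_iff] at hu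
      refine trc_of_cube h2 h1 ?_
      have h3 : (⟨_, hu⟩ : H) ^ 3 = 1 := hH ▸ pow_card_eq_one'
      have h3' : (x⁻¹ * pr u * x) ^ 3 = 1 := congrArg Subtype.val h3
      have := congrArg (fun v => x * v * x⁻¹) h3'
      simpa [pow_three, mul_assoc] using this
    obtain ⟨S, rfl⟩ := QuotientGroup.mk_surjective s
    obtain ⟨T, rfl⟩ := QuotientGroup.mk_surjective t
    have hT := htr T q ht ht1
    have hS := htr S p hs hs1
    have hC := htr (T⁻¹ * S) r hr he
    have hcm := commute_of_trc_one h2 (no_cube_root ha hq h2) hT hS hC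
    rcases eq_or_inv_of_commute (by rw [hS]; exact fun e => one_ne_zero (α := F) (by linear_combination e + 2 * h2))
      hcm.symm (hT.trans hS.symm) with rfl | rfl
    · exact hs
    · exact (MulAction.stabilizer PSL₂ p).inv_mem hs

/-- Point stabilisers of odd order. -/
theorem binary_odd_iff (hF : 4 ≤ Fintype.card F) {H : Subgroup PSL₂} (hne : H ≠ ⊥) (hodd : Odd (Nat.card H)) :
    Binary PSL₂ (PSL₂ ⧸ H) ↔ (∃ a : ℕ, Odd a ∧ Fintype.card F = 2 ^ a) ∧ Nat.card H = 3 := by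
  obtain ⟨p, hp⟩ := CharP.exists F
  have : Fact p.Prime := ⟨CharP.char_is_prime F p⟩
  constructor
  swap
  · rintro ⟨⟨a, ha, hq⟩, h3⟩
    have h2 : (2 : F) = 0 := by
      have h := FiniteField.cast_card_eq_zero F
      rw [hq] at h
      push_cast at h
      exact eq_zero_of_pow_eq_zero h
    exact binary_three ha hq h2 h3
  intro hB
  have heven : ∀ n : ℕ, Nat.card H = 2 * n → False := fun n e => Nat.not_even_iff_odd.2 hodd (e ▸ even_two_mul n)
  rcases Dickson.subgroup_cases p (rfl : Fintype.card F = _) H with ⟨hc, hpH, -⟩ | ⟨hpH, x, hx⟩ |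
      ⟨n, -, -, -, ⟨ψ⟩⟩ | ⟨⟨ψ⟩⟩ | ⟨⟨ψ⟩⟩ | ⟨⟨ψ⟩⟩ | ⟨e, m, hk3, hkm, he, hsub⟩
  rotate_left
  · have h2 : (2 : F) ≠ 0 := fun h => by
      have := charTwo h
      rw [CharP.eq F hp this] at hpH
      exact Nat.not_even_iff_odd.2 hodd (even_iff_two_dvd.2 hpH)
    exact absurd hB (not_binary_fixed p h2 hodd hpH hx)
  · exact (heven n ((Nat.card_congr ψ.toEquiv).trans DihedralGroup.nat_card)).elim
  · exact (heven 6 ((Nat.card_congr ψ.toEquiv).trans Dickson.natCard_alt_four)).elim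
  · exact (heven 12 ((Nat.card_congr ψ.toEquiv).trans Dickson.natCard_perm_four)).elim
  · exact (heven 30 ((Nat.card_congr ψ.toEquiv).trans Dickson.natCard_alt_five)).elim
  · exfalso
    rcases Nat.even_or_odd (p ^ e) with hev | ho
    · rcases hsub with ⟨hcard, -⟩ | ⟨hp2, -, -⟩
      · exact Nat.not_even_iff_odd.2 hodd (hcard ▸ hev.mul_right _)
      · exact hp2 ((Nat.prime_dvd_prime_iff_eq Nat.prime_two (Fact.out : p.Prime)).1
          (Nat.prime_two.dvd_of_dvd_pow (even_iff_two_dvd.1 hev))).symm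
    · have h8 := Nat.eight_dvd_sq_sub_one_of_odd ho
      rcases hsub with ⟨hcard, -⟩ | ⟨-, hcard, -⟩
      · exact Nat.not_even_iff_odd.2 hodd (hcard ▸ ((even_iff_two_dvd.2 (Dvd.dvd.trans (by norm_num) h8)).mul_left _))
      · obtain ⟨c, hc⟩ := h8
        rw [hc, show p ^ e * (8 * c) = 2 * (2 * (2 * (p ^ e * c))) by ring] at hcard
        exact heven _ (Nat.eq_of_mul_eq_mul_left two_pos hcard)
  obtain ⟨⟨h, hh⟩, hgen⟩ := hc.exists_generator
  obtain ⟨T, rfl⟩ := QuotientGroup.mk_surjective h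
  have hH : H = Subgroup.zpowers (pr T) := le_antisymm (fun g hg => by
    obtain ⟨k, hk⟩ := Subgroup.mem_zpowers_iff.1 (hgen ⟨g, hg⟩)
    exact Subgroup.mem_zpowers_iff.2 ⟨k, congrArg Subtype.val hk⟩) (Subgroup.zpowers_le.2 hh)
  have hT1 : pr T ≠ 1 := fun e => hne (by rw [hH, e, Subgroup.zpowers_one_eq_bot])
  have hT2 : pr T ^ 2 ≠ 1 := fun e => hT1 (involution_not_mem hodd hh e)
  have hTp : pr T ^ p ≠ 1 := fun e => hpH (by rw [hH, Nat.card_zpowers, orderOf_eq_prime e hT1])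
  obtain ⟨t, ht⟩ : ∃ t, trc T = t := ⟨_, rfl⟩
  have hns : ¬ IsScalar T := fun h => hT1 (pr_eq_one_iff.2 h)
  have ht0 : t ≠ 0 := fun e => hT2 (by
    rw [pow_two]
    show pr (T * T) = 1
    refine pr_eq_one_iff.2 ?_
    simp [IsScalar, sq_eq, ht, e])
  have ht4 : t ^ 2 ≠ 4 := fun e => by
    by_cases h2 : (2 : F) = 0
    · exact ht0 (eq_zero_of_pow_eq_zero (n := 2) (by linear_combination e + 2 * h2))
    refine hTp ?_
    show pr (T ^ p) = 1
    refine pr_eq_one_iff.2 ?_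
    obtain ⟨l, hl⟩ : ∃ l, l = t / 2 := ⟨_, rfl⟩
    have hl2 : l ^ 2 = 1 := by rw [hl, div_pow, e]; field_simp; ring
    have htl : t = 2 * l := by rw [hl]; field_simp
    obtain ⟨N, hN⟩ : ∃ N, N = (T : Matrix (Fin 2) (Fin 2) F) - l • 1 := ⟨_, rfl⟩
    have hNN : N * N = 0 := by
      rw [hN]
      simp only [sub_mul, mul_sub, smul_mul_assoc, mul_smul_comm, one_mul, mul_one, sq_eq, ht, htl]
      simp only [smul_sub, smul_smul]
      rw [← pow_two, hl2]
      module
    have hTN : (T : Matrix (Fin 2) (Fin 2) F) = l • 1 + N := by rw [hN]; abel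
    have : ((T : Matrix (Fin 2) (Fin 2) F)) ^ p = l ^ p • 1 := by
      rw [hTN, add_pow_char_of_commute (p := p) ((Commute.one_left _).smul_left l), smul_pow, one_pow,
        show p = 2 + (p - 2) by have := (Fact.out : p.Prime).two_le; omega, pow_add N, pow_two N, hNN, zero_mul,
        add_zero]
    simp [IsScalar, Matrix.SpecialLinearGroup.coe_pow, this]
  by_cases h2 : (2 : F) = 0
  · by_cases ht1 : t = 1
    · obtain ⟨a, ha⟩ : ∃ a : ℕ, Fintype.card F = 2 ^ a := by
        have := charTwo h2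
        obtain ⟨a, -, ha⟩ := FiniteField.card F 2
        exact ⟨a, ha⟩
      rcases Nat.even_or_odd a with hae | hao
      · exfalso
        obtain ⟨w, hw⟩ := exists_cube_root hae ha
        have hw0 : w ≠ 0 := fun e => by rw [e] at hw; simp at hw
        obtain ⟨A, hA⟩ : ∃ A : SL(2, F), (A : Matrix (Fin 2) (Fin 2) F) = !![w, 0; 0, w⁻¹] :=
          ⟨⟨!![w, 0; 0, w⁻¹], by simp [Matrix.det_fin_two, hw0]⟩, rfl⟩
        obtain ⟨B, hBm⟩ : ∃ B : SL(2, F), (B : Matrix (Fin 2) (Fin 2) F) = !![w⁻¹, 1; 0, w] :=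
          ⟨⟨!![w⁻¹, 1; 0, w], by simp [Matrix.det_fin_two, hw0]⟩, rfl⟩
        have hwi : w⁻¹ = w + 1 := inv_eq_of_mul_eq_one_right (by linear_combination hw - h2)
        refine not_binary_cyclic hH (ht ▸ ht4) (Or.inl h2) (A := A) (B := B) ?_ ?_ (Or.inl ?_) ?_ hB
        · simp [trc, hA, hwi] at *
          linear_combination w * h2 - ht.trans ht1
        · simp [trc, hBm, hwi] at *
          linear_combination w * h2 - ht.trans ht1
        · simp [trc, hA, hBm, hwi, Matrix.SpecialLinearGroup.coe_inv, Matrix.adjugate_fin_two, Matrix.mul_apply,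
            Fin.sum_univ_two] at *
          linear_combination 2 * hw + (-1) * h2 - ht.trans ht1
        · intro e
          have := congrArg (fun u : SL(2, F) => u.1 0 1) e
          simp [hA, hBm, hwi, Matrix.mul_apply, Fin.sum_univ_two] at this
      · refine ⟨⟨a, hao, ha⟩, ?_⟩
        have : Fact (Nat.Prime 3) := ⟨Nat.prime_three⟩
        rw [hH, Nat.card_zpowers, orderOf_eq_prime (p := 3) ?_ hT1]
        show pr (T ^ 3) = 1
        have e3 : ((T ^ 3 : SL(2, F)) : Matrix (Fin 2) (Fin 2) F) = -1 := by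
          rw [Matrix.SpecialLinearGroup.coe_pow, pow_three, sq_eq, ht, ht1, one_smul, mul_sub, mul_one, sq_eq, ht, ht1,
            one_smul]
          abel
        exact pr_eq_one_iff.2 (by simp only [IsScalar, e3]; simp)
    · exfalso
      obtain ⟨b, hb⟩ := exists_sq h2 t
      obtain ⟨g, hgt, hgs⟩ := exists_trc t
      obtain ⟨Y, Z, hY, hZ, hYZ⟩ := exists_mul_eq_of_conic hgs (t := t) (a := 1) (b := b)
        (by rw [hgt]; linear_combination hb + (1 : F) * h2)
      refine not_binary_cyclic hH (ht ▸ ht4) (Or.inl h2) (A := Y⁻¹) (B := Z) (by rw [trc_inv, hY, ht])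
        (by rw [hZ, ht]) (Or.inl (by rw [inv_inv, hYZ, hgt, ht])) (fun e => ?_) hB
      rcases eq_or_inv_of_commute (by rw [trc_inv, hY]; exact ht4) e (by rw [trc_inv, hY, hZ]) with e' | e'
      · rw [e', mul_inv_cancel] at hYZ
        rw [← hYZ, trc_one, h2] at hgt
        exact ht0 hgt.symm
      · rw [e', inv_inv] at hYZ
        rw [← hYZ] at hgt
        have hd := det_eq Y
        simp only [trc] at hY hgt
        simp [Matrix.mul_apply, Fin.sum_univ_two] at hgt
        have h5 : t * (t - 1) = 0 := by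
          linear_combination hgt - (Y.1 0 0 + Y.1 1 1 + t) * hY + 2 * hd + (1 : F) * h2
        exact (mul_ne_zero ht0 (sub_ne_zero.2 ht1)) h5
  · exfalso
    obtain ⟨s, hs, hs2⟩ : ∃ s, (s = t ∨ s = -t) ∧ s ≠ t ^ 2 - 2 := by
      by_cases h : t = t ^ 2 - 2
      · exact ⟨-t, Or.inr rfl, fun e => ht0 ((mul_eq_zero.1 (show (2 : F) * t = 0 by
          linear_combination h - e)).resolve_left h2)⟩
      · exact ⟨t, Or.inl rfl, h⟩
    obtain ⟨g, hgt, hgs⟩ := exists_trc s
    have hs4 : trc g ≠ 2 := fun e => ht4 (by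
      rw [hgt] at e
      rcases hs with rfl | rfl
      · rw [e]; norm_num
      · rw [← neg_sq, e]; norm_num)
    have hodd' : Fintype.card F % 2 = 1 := by
      refine FiniteField.odd_card_of_char_ne_two fun e => h2 ?_
      exact_mod_cast (ringChar.spec F 2).2 (e ▸ dvd_rfl)
    obtain ⟨Y, Z, hY, hZ, hYZ⟩ := exists_mul_eq h2 hodd' hgs ht0 hs4
    refine not_binary_cyclic hH (ht ▸ ht4) (Or.inr (ht ▸ ht0)) (A := Y⁻¹) (B := Z) (by rw [trc_inv, hY, ht])
      (by rw [hZ, ht]) (by rw [inv_inv, hYZ, hgt, ht]; exact hs) (fun e => ?_) hB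
    rcases eq_or_inv_of_commute (by rw [trc_inv, hY]; exact ht4) e (by rw [trc_inv, hY, hZ]) with e' | e'
    · rw [e', mul_inv_cancel] at hYZ
      exact hs4 (by rw [← hYZ, trc_one])
    · rw [e', inv_inv] at hYZ
      rw [← hYZ] at hgt
      have hd := det_eq Y
      simp only [trc] at hY hgt
      simp [Matrix.mul_apply, Fin.sum_univ_two] at hgt
      exact hs2 (by linear_combination -hgt + (Y.1 0 0 + Y.1 1 1 + t) * hY - 2 * hd)

/-- The binary coset actions. -/
theorem binary_iff (hF : 4 ≤ Fintype.card F) (h5 : Fintype.card F ≠ 5) (H : Subgroup PSL₂) (hH : H ≠ ⊤) :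
    Binary PSL₂ (PSL₂ ⧸ H) ↔
      (H = ⊥ ∨ ((∃ a : ℕ, Fintype.card F = 2 ^ a) ∧ ∃ P : Sylow 2 PSL₂, H = P) ∨
        ((∃ a : ℕ, Odd a ∧ Fintype.card F = 2 ^ a) ∧ Nat.card H = 3)) := by
  obtain ⟨p, hp⟩ := CharP.exists F
  have : Fact p.Prime := ⟨CharP.char_is_prime F p⟩
  have h2of : ∀ a : ℕ, Fintype.card F = 2 ^ a → (2 : F) = 0 := fun a hq => by
    have h := FiniteField.cast_card_eq_zero F
    rw [hq] at h
    push_cast at h
    exact eq_zero_of_pow_eq_zero h
  have hsyl : ∀ a : ℕ, Fintype.card F = 2 ^ a → ∀ P : Sylow 2 PSL₂, Even (Nat.card (P : Subgroup PSL₂)) := by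
    intro a hq P
    have ha : a ≠ 0 := fun e => by rw [e, pow_zero] at hq; omega
    obtain ⟨U, hU⟩ := exists_sylow_upU hq ha
    rw [Nat.card_congr (P.equiv U).toEquiv, hU, card_upU, hq]
    exact (Nat.even_pow).2 ⟨even_two, ha⟩
  by_cases hbot : H = ⊥
  · subst hbot
    exact ⟨fun _ => Or.inl rfl, fun _ => binary_bot⟩
  rcases Nat.even_or_odd (Nat.card H) with hev | hodd
  · have : Fact (Nat.Prime 2) := ⟨Nat.prime_two⟩
    obtain ⟨⟨c, hc⟩, hco⟩ := exists_prime_orderOf_dvd_card' (G := H) 2 (even_iff_two_dvd.1 hev)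
    rw [Subgroup.orderOf_mk] at hco
    have hc2 : c ^ 2 = 1 := by have := pow_orderOf_eq_one c; rwa [hco] at this
    have hc1 : c ≠ 1 := fun e => by rw [e, orderOf_one] at hco; omega
    by_cases h2 : (2 : F) = 0
    · have := charTwo h2
      obtain ⟨a, -, ha⟩ := FiniteField.card F 2
      rw [binary_even_iff h2 hF ha hH hc hc2 hc1]
      refine ⟨fun h => Or.inr (Or.inl ⟨⟨a, ha⟩, h⟩), ?_⟩
      rintro (h | ⟨-, h⟩ | ⟨-, h3⟩)
      · exact absurd h hbot
      · exact h
      · rw [h3] at hev; exact absurd hev (by decide)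
    · have hodd' : Fintype.card F % 2 = 1 := by
        refine FiniteField.odd_card_of_char_ne_two fun e => h2 ?_
        exact_mod_cast (ringChar.spec F 2).2 (e ▸ dvd_rfl)
      refine iff_of_false (not_binary_odd_even p h2 (by omega) hH hc hc2 hc1) ?_
      rintro (h | ⟨⟨a, ha⟩, -⟩ | ⟨⟨a, -, ha⟩, -⟩)
      · exact hbot h
      · exact h2 (h2of a ha)
      · exact h2 (h2of a ha)
  · rw [binary_odd_iff hF hbot hodd]
    refine ⟨fun h => Or.inr (Or.inr h), ?_⟩
    rintro (h | ⟨⟨a, ha⟩, P, rfl⟩ | h)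
    · exact absurd h hbot
    · exact absurd (hsyl a ha P) (Nat.not_even_iff_odd.2 hodd)
    · exact h

end CfsgLib.Lie.BinaryPSL
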