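import Cfsg.Agent.Lib.Classical.SL2TracePSL
import Cfsg.Agent.Lib.Lie.BinaryPSL.Abstract

/-!
# Matrices for binary actions of `PSL₂`
-/

set_option autoImplicit false

namespace CfsgLib.Lie.BinaryPSL

open Matrix
open CfsgLib.Classical.Trace
open scoped MatrixGroups

variable {F : Type*} [Field F]

local notation "PSL₂" => Matrix.ProjectiveSpecialLinearGroup (Fin 2) F

/-- The image in the projective group. -/
abbrev pr (x : SL(2, F)) : PSL₂ := QuotientGroup.mk x

/-- Upper unitriangular. -/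
def uS (t : F) : SL(2, F) := ⟨!![1, t; 0, 1], by simp [Matrix.det_fin_two]⟩

/-- Lower unitriangular. -/
def lS (t : F) : SL(2, F) := ⟨!![1, 0; t, 1], by simp [Matrix.det_fin_two]⟩

/-- Diagonal. -/
def dS (l : Fˣ) : SL(2, F) := ⟨!![(l : F), 0; 0, ((l⁻¹ : Fˣ) : F)], by simp [Matrix.det_fin_two]⟩

theorem uS_coe (t : F) : (uS t : Matrix (Fin 2) (Fin 2) F) = !![1, t; 0, 1] := rfl
theorem lS_coe (t : F) : (lS t : Matrix (Fin 2) (Fin 2) F) = !![1, 0; t, 1] := rfl
theorem dS_coe (l : Fˣ) :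
    (dS l : Matrix (Fin 2) (Fin 2) F) = !![(l : F), 0; 0, ((l⁻¹ : Fˣ) : F)] := rfl

theorem ext_sl {x y : SL(2, F)}
    (h : ∀ i j, (x : Matrix (Fin 2) (Fin 2) F) i j = (y : Matrix (Fin 2) (Fin 2) F) i j) : x = y :=
  Subtype.ext (Matrix.ext h)

theorem uS_add (s t : F) : uS (s + t) = uS s * uS t := by
  refine ext_sl fun i j => ?_
  fin_cases i <;> fin_cases j <;> simp [uS_coe, Matrix.mul_apply, Fin.sum_univ_two, add_comm]

theorem uS_zero : uS (0 : F) = 1 := by
  refine ext_sl fun i j => ?_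
  fin_cases i <;> fin_cases j <;> simp [uS_coe]

theorem uS_inv (t : F) : (uS t)⁻¹ = uS (-t) :=
  inv_eq_of_mul_eq_one_right (by rw [← uS_add, add_neg_cancel, uS_zero])

theorem dS_mul (l m : Fˣ) : dS (l * m) = dS l * dS m := by
  refine ext_sl fun i j => ?_
  fin_cases i <;> fin_cases j <;> simp [dS_coe, Matrix.mul_apply, Fin.sum_univ_two, mul_comm]

theorem dS_one : dS (1 : Fˣ) = 1 := by
  refine ext_sl fun i j => ?_
  fin_cases i <;> fin_cases j <;> simp [dS_coe]

theorem dS_conj_uS (l : Fˣ) (t : F) : dS l * uS t * (dS l)⁻¹ = uS ((l : F) ^ 2 * t) := by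
  rw [mul_inv_eq_iff_eq_mul]
  refine ext_sl fun i j => ?_
  fin_cases i <;> fin_cases j <;> simp [dS_coe, uS_coe, Matrix.mul_apply, Fin.sum_univ_two] <;> field_simp

theorem eq_of_isScalar {x : SL(2, F)} (h : IsScalar x) : x = 1 ∨ x = -1 := by
  obtain ⟨h01, h10, h00⟩ := h
  have hd := det_eq x
  rw [h01, h10, ← h00] at hd
  rcases sq_eq_one_iff.1 (show ((x : Matrix (Fin 2) (Fin 2) F) 0 0) ^ 2 = 1 by linear_combination hd) with e | e
  · refine Or.inl (ext_sl fun i j => ?_)
    fin_cases i <;> fin_cases j <;> simp [h01, h10, ← h00, e]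
  · refine Or.inr (ext_sl fun i j => ?_)
    fin_cases i <;> fin_cases j <;> simp [h01, h10, ← h00, e]

theorem isScalar_one : IsScalar (1 : SL(2, F)) := by simp [IsScalar]

theorem pr_neg (x : SL(2, F)) : pr (-x) = pr x := mk_neg_eq x

theorem pr_eq_iff {x y : SL(2, F)} : pr x = pr y ↔ y = x ∨ y = -x := by
  constructor
  · intro h
    have h1 : IsScalar (x⁻¹ * y) := mk_eq_one_iff.1 (by
      show pr (x⁻¹ * y) = 1
      rw [show pr (x⁻¹ * y) = (pr x)⁻¹ * pr y from rfl, h, inv_mul_cancel])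
    rcases eq_of_isScalar h1 with e | e
    · exact Or.inl (inv_mul_eq_one.1 e).symm
    · refine Or.inr ?_
      rw [inv_mul_eq_iff_eq_mul] at e
      rw [e, mul_neg, mul_one]
  · rintro (rfl | rfl)
    · rfl
    · rw [pr_neg]

theorem pr_eq_one_iff {x : SL(2, F)} : pr x = 1 ↔ IsScalar x := mk_eq_one_iff

theorem pr_commute {x y : SL(2, F)} (h : Commute (pr x) (pr y)) : x * y = y * x ∨ x * y = -(y * x) :=
  pr_eq_iff.1 (show pr (y * x) = pr (x * y) from h.eq.symm)

theorem trc_one : trc (1 : SL(2, F)) = 2 := by simp [trc]; ring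

theorem trc_inv (x : SL(2, F)) : trc x⁻¹ = trc x := by
  simp [trc, Matrix.SpecialLinearGroup.coe_inv, Matrix.adjugate_fin_two, add_comm]

theorem trc_uS (t : F) : trc (uS t) = 2 := by simp [trc, uS_coe]; ring

theorem trc_eq_zero_of_anti (h2 : (2 : F) ≠ 0) {x y : SL(2, F)} (h : x * y = -(y * x)) : trc x = 0 := by
  have e : x = -(y * x * y⁻¹) := by
    rw [eq_comm, ← neg_mul, ← h, mul_inv_cancel_right]
  have h1 := congrArg trc e
  rw [trc_neg, trc_conj] at h1
  exact (mul_eq_zero.1 (show (2 : F) * trc x = 0 by linear_combination h1)).resolve_left h2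

/-- An element whose image is an involution has trace zero. -/
theorem trc_eq_zero_of_sq (h2 : (2 : F) ≠ 0) {x : SL(2, F)} (hne : pr x ≠ 1) (h : pr x ^ 2 = 1) : trc x = 0 := by
  have h1 : IsScalar (x * x) := pr_eq_one_iff.1 (by rw [← h, pow_two]; rfl)
  obtain ⟨h01, h10, h00⟩ := h1
  rw [Matrix.SpecialLinearGroup.coe_mul, sq_eq] at h01 h10 h00
  by_contra ht
  refine hne (pr_eq_one_iff.2 ⟨?_, ?_, ?_⟩)
  · simpa [ht] using h01
  · simpa [ht] using h10
  · simpa [ht] using h00

/-- The centraliser of a non-scalar element. -/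
theorem commute_affine {x y : SL(2, F)} (hx : ¬ IsScalar x) (h : x * y = y * x) :
    ∃ α β : F, (y : Matrix (Fin 2) (Fin 2) F) = α • 1 + β • (x : Matrix (Fin 2) (Fin 2) F) := by
  obtain ⟨a, ha⟩ : ∃ a : Matrix (Fin 2) (Fin 2) F, a = x := ⟨_, rfl⟩
  obtain ⟨b, hb⟩ : ∃ b : Matrix (Fin 2) (Fin 2) F, b = y := ⟨_, rfl⟩
  have hm : a * b = b * a := by rw [ha, hb, ← Matrix.SpecialLinearGroup.coe_mul, h, Matrix.SpecialLinearGroup.coe_mul]
  have e00 := congrFun (congrFun hm 0) 0
  have e01 := congrFun (congrFun hm 0) 1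
  have e10 := congrFun (congrFun hm 1) 0
  simp only [Matrix.mul_apply, Fin.sum_univ_two] at e00 e01 e10
  rw [← hb, ← ha]
  by_cases h01 : a 0 1 = 0
  · by_cases h10 : a 1 0 = 0
    · have hd : a 0 0 - a 1 1 ≠ 0 := fun e => hx ⟨ha ▸ h01, ha ▸ h10, ha ▸ sub_eq_zero.1 e⟩
      refine ⟨b 0 0 - (b 0 0 - b 1 1) / (a 0 0 - a 1 1) * a 0 0, (b 0 0 - b 1 1) / (a 0 0 - a 1 1), ?_⟩
      rw [h01] at e01; rw [h10] at e10
      ext i j
      fin_cases i <;> fin_cases j <;> simp [h01, h10]
      · exact (mul_eq_zero.1 (show (a 0 0 - a 1 1) * b 0 1 = 0 by linear_combination e01)).resolve_left hd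
      · exact (mul_eq_zero.1 (show (a 0 0 - a 1 1) * b 1 0 = 0 by linear_combination -e10)).resolve_left hd
      · field_simp
        ring
    · refine ⟨b 0 0 - b 1 0 / a 1 0 * a 0 0, b 1 0 / a 1 0, ?_⟩
      ext i j
      fin_cases i <;> fin_cases j <;> simp <;> field_simp
      · linear_combination -e00
      · linear_combination -e10
  · refine ⟨b 0 0 - b 0 1 / a 0 1 * a 0 0, b 0 1 / a 0 1, ?_⟩
    ext i j
    fin_cases i <;> fin_cases j <;> simp <;> field_simp
    · linear_combination e00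
    · linear_combination e01

theorem commute_of_commute {x y z : SL(2, F)} (hx : ¬ IsScalar x) (hy : x * y = y * x) (hz : x * z = z * x) :
    y * z = z * y := by
  obtain ⟨α, β, hy'⟩ := commute_affine hx hy
  obtain ⟨γ, δ, hz'⟩ := commute_affine hx hz
  apply Subtype.ext
  show (y : Matrix (Fin 2) (Fin 2) F) * z = z * y
  rw [hy', hz']
  simp only [add_mul, mul_add, smul_mul_assoc, mul_smul_comm, one_mul, mul_one]
  module

/-- Commuting elements of equal trace. -/
theorem eq_or_inv_of_commute {y z : SL(2, F)} (ht : trc y ^ 2 ≠ 4) (h : y * z = z * y) (hz : trc z = trc y) :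
    z = y ∨ z = y⁻¹ := by
  obtain ⟨α, β, e⟩ := commute_affine (not_isScalar_of_trc ht) h
  have hdy := det_eq y
  have hdz := det_eq z
  have e00 := congrFun (congrFun e 0) 0
  have e01 := congrFun (congrFun e 0) 1
  have e10 := congrFun (congrFun e 1) 0
  have e11 := congrFun (congrFun e 1) 1
  simp at e00 e01 e10 e11
  have htr : 2 * α + β * trc y = trc y := by
    conv_rhs => rw [← hz]
    simp only [trc, e00, e11]; ring
  rw [e00, e01, e10, e11] at hdz
  have hq : α ^ 2 + α * β * trc y + β ^ 2 = 1 := by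
    simp only [trc]
    linear_combination hdz - β ^ 2 * hdy
  have hb : β ^ 2 = 1 := by
    have : (β ^ 2 - 1) * (4 - trc y ^ 2) = 0 := by
      linear_combination 4 * hq - (2 * α + β * trc y + trc y) * htr
    rcases mul_eq_zero.1 this with h | h
    · exact sub_eq_zero.1 h
    · exact absurd (sub_eq_zero.1 h).symm ht
  have hα : α * (α + β * trc y) = 0 := by linear_combination hq - hb
  have fin1 : α = 0 → β = 1 → z = y := fun ha hb => ext_sl fun i j => by
    fin_cases i <;> fin_cases j <;> simp [e00, e01, e10, e11, ha, hb]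
  have fin2 : α = trc y → β = -1 → z = y⁻¹ := fun ha hb => ext_sl fun i j => by
    fin_cases i <;> fin_cases j <;>
      simp [Matrix.SpecialLinearGroup.coe_inv, Matrix.adjugate_fin_two, e00, e01, e10, e11, ha, hb, trc]
  rcases sq_eq_one_iff.1 hb with hb1 | hb1 <;> subst hb1
  · rcases mul_eq_zero.1 hα with ha | ha
    · exact Or.inl (fin1 ha rfl)
    · by_cases h2 : (2 : F) = 0
      · exact Or.inr (fin2 (by linear_combination ha - trc y * h2) (by linear_combination h2))
      · exact Or.inl (fin1 ((mul_eq_zero.1 (show (2 : F) * α = 0 by linear_combination htr)).resolve_left h2) rfl)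
  · rcases mul_eq_zero.1 hα with ha | ha
    · by_cases h2 : (2 : F) = 0
      · exact Or.inl (fin1 ha (by linear_combination -h2))
      · exact Or.inr (fin2 (mul_left_cancel₀ h2 (by linear_combination htr)) rfl)
    · exact Or.inr (fin2 (by linear_combination ha) rfl)

theorem normSurj_finite [Fintype F] {t : F} (ht : t ^ 2 ≠ 4) : NormSurj t := by
  by_cases h2 : (2 : F) = 0
  · have : CharP F 2 := CharTwo.of_one_ne_zero_of_two_eq_zero one_ne_zero h2
    exact normSurj_of_two t
  · refine normSurj_of_odd ?_ h2 ht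
    refine FiniteField.odd_card_of_char_ne_two fun e => h2 ?_
    exact_mod_cast (ringChar.spec F 2).2 (e ▸ dvd_rfl)

/-- Elements of equal trace up to sign are conjugate in the projective group. -/
theorem exists_conj_pr [Fintype F] {x y : SL(2, F)} (hx : trc x ^ 2 ≠ 4) (h : trc y = trc x ∨ trc y = -trc x) :
    ∃ m : PSL₂, m * pr x * m⁻¹ = pr y := by
  have hxs := not_isScalar_of_trc hx
  rcases h with h | h
  · obtain ⟨u, rfl⟩ := exists_conj hxs (not_isScalar_of_trc (by rw [h]; exact hx)) h (normSurj_finite hx)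
    exact ⟨pr u, rfl⟩
  · have h' : trc (-y) = trc x := by rw [trc_neg, h, neg_neg]
    obtain ⟨u, hu⟩ := exists_conj hxs (not_isScalar_of_trc (by rw [h']; exact hx)) h' (normSurj_finite hx)
    exact ⟨pr u, by rw [← pr_neg y, ← hu]; rfl⟩

end CfsgLib.Lie.BinaryPSL
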