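import Cfsg.Agent.Lib.Lie.BinaryPSL.Mat
import Cfsg.Agent.Lib.Classical.Dickson.MaxExist
import Cfsg.Agent.Lib.Classical.SL2Structure

/-!
# Subgroups of `PSL₂` containing the centraliser of an involution, odd characteristic
-/

set_option autoImplicit false

namespace CfsgLib.Lie.BinaryPSL

open Matrix
open CfsgLib.Classical CfsgLib.Classical.Trace
open scoped MatrixGroups LinearAlgebra.Projectivization

theorem dihedral_two_involutions {n : ℕ} [NeZero n] (x y : DihedralGroup n) (hx : x ^ 2 = 1) (hy : y ^ 2 = 1)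
    (hx1 : x ≠ 1) (hy1 : y ≠ 1) (hcx : 4 < Nat.card {g : DihedralGroup n // g * x = x * g}) :
    (∀ g, g * x = x * g) ∧ (4 < Nat.card {g : DihedralGroup n // g * y = y * g} → x = y) := by
  have two : ∀ i : ZMod n, i ≠ 0 → 2 * i = 0 → 2 * i.val = n := fun i hi h => by
    have h1 : ((2 * i.val : ℕ) : ZMod n) = 0 := by push_cast; rw [ZMod.natCast_zmod_val]; exact h
    obtain ⟨c, hc⟩ := (ZMod.natCast_eq_zero_iff _ _).1 h1
    have h2 := ZMod.val_lt i
    have h3 : i.val ≠ 0 := fun e => hi ((ZMod.val_eq_zero i).1 e)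
    rcases c with _ | _ | c
    · omega
    · omega
    · exfalso
      have : n * 2 ≤ n * (c + 1 + 1) := Nat.mul_le_mul_left _ (by omega)
      omega
  have hsmall : ∀ i : ZMod n, Nat.card {g : DihedralGroup n // g * DihedralGroup.sr i = DihedralGroup.sr i * g} ≤ 4 := by
    intro i
    have hz : ∀ j : {j : ZMod n // 2 * j = 0}, j.1 = 0 ∨ 2 * j.1.val = n := fun j =>
      (em (j.1 = 0)).imp id fun h => two _ h j.2
    have hcard : Nat.card {j : ZMod n // 2 * j = 0} ≤ 2 := by
      refine le_trans (Nat.card_le_card_of_injective (fun j => decide (j.1 = 0)) fun j k h => ?_) (by simp)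
      simp only [decide_eq_decide] at h
      refine Subtype.ext ?_
      rcases hz j with hj | hj <;> rcases hz k with hk | hk
      · rw [hj, hk]
      · rw [hj, h.1 hj]
      · rw [hk, h.2 hk]
      · exact ZMod.val_injective n (by omega)
    refine le_trans (Nat.card_le_card_of_injective (β := {j : ZMod n // 2 * j = 0} × Bool) (fun g => ?_) ?_) (by
      rw [Nat.card_prod, Nat.card_eq_fintype_card (α := Bool), Fintype.card_bool]; omega)
    · rcases g with ⟨g | g, hg⟩
      · refine (⟨g, ?_⟩, true)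
        rw [DihedralGroup.r_mul_sr, DihedralGroup.sr_mul_r] at hg
        injection hg with h
        linear_combination -h
      · refine (⟨g - i, ?_⟩, false)
        rw [DihedralGroup.sr_mul_sr, DihedralGroup.sr_mul_sr] at hg
        injection hg with h
        linear_combination -h
    · rintro ⟨g | g, hg⟩ ⟨k | k, hk⟩ h <;> simp at h <;> simp [h]
  rcases x with i | i
  · have hi : 2 * i = 0 := by
      rw [pow_two, DihedralGroup.r_mul_r, DihedralGroup.one_def] at hx
      injection hx with h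
      linear_combination h
    have hi0 : i ≠ 0 := fun e => hx1 (by rw [e, DihedralGroup.one_def])
    refine ⟨fun g => ?_, fun h4 => ?_⟩
    · rcases g with j | j
      · simp [add_comm]
      · simp; linear_combination hi
    · rcases y with j | j
      · have hj : 2 * j = 0 := by
          rw [pow_two, DihedralGroup.r_mul_r, DihedralGroup.one_def] at hy
          injection hy with h
          linear_combination h
        have hj0 : j ≠ 0 := fun e => hy1 (by rw [e, DihedralGroup.one_def])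
        rw [ZMod.val_injective n (show i.val = j.val by have := two i hi0 hi; have := two j hj0 hj; omega)]
      · exact absurd (hsmall j) (not_le.2 h4)
  · exact absurd (hsmall i) (not_le.2 hcx)

theorem centralizer_alt_four : ∀ x : alternatingGroup (Fin 4), x ^ 2 = 1 → x ≠ 1 →
    (Finset.univ.filter fun g => g * x = x * g).card ≤ 4 := by decide +kernel

theorem centralizer_alt_five : ∀ x : alternatingGroup (Fin 5), x ^ 2 = 1 → x ≠ 1 →
    (Finset.univ.filter fun g => g * x = x * g).card ≤ 4 := by decide +kernel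

theorem centralizer_perm_four : ∀ x : Equiv.Perm (Fin 4), x ^ 2 = 1 → x ≠ 1 →
    (Finset.univ.filter fun g => g * x = x * g).card ≤ 8 := by decide +kernel

variable {F : Type*} [Field F] [Fintype F]

local notation "PSL₂" => Matrix.ProjectiveSpecialLinearGroup (Fin 2) F

/-- The number of elements commuting with a given one. -/
noncomputable def cN (a : PSL₂) : ℕ := Nat.card {g : PSL₂ // g * a = a * g}

theorem card_trace_zero_le (h2 : (2 : F) ≠ 0) :
    Nat.card {x : SL(2, F) // trc x = 0} ≤ Fintype.card F * Fintype.card F + Fintype.card F := by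
  classical
  obtain ⟨i0, hi0⟩ : ∃ i0 : F, ∀ x : F, x ^ 2 = -1 → x = i0 ∨ x = -i0 := by
    by_cases h : ∃ i : F, i ^ 2 = -1
    · obtain ⟨i, hi⟩ := h
      exact ⟨i, fun x hx => sq_eq_sq_iff_eq_or_eq_neg.1 (hx.trans hi.symm)⟩
    · exact ⟨0, fun x hx => absurd ⟨x, hx⟩ h⟩
  obtain ⟨f, hf⟩ : ∃ f : {x : SL(2, F) // trc x = 0} → (F × F) ⊕ F, ∀ x, f x =
      (if x.1.1 1 0 = 0 then (if x.1.1 0 0 = i0 then Sum.inl (x.1.1 0 1, 0) else Sum.inr (x.1.1 0 1))
        else Sum.inl (x.1.1 0 0, x.1.1 1 0)) := ⟨_, fun _ => rfl⟩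
  refine le_trans (Nat.card_le_card_of_injective f fun x y h => ?_) (by
    rw [Nat.card_sum, Nat.card_prod, Nat.card_eq_fintype_card])
  obtain ⟨x, hx⟩ := x
  obtain ⟨y, hy⟩ := y
  have hdx := det_eq x
  have hdy := det_eq y
  have hx11 : x.1 1 1 = -x.1 0 0 := by rw [trc] at hx; linear_combination hx
  have hy11 : y.1 1 1 = -y.1 0 0 := by rw [trc] at hy; linear_combination hy
  rw [hx11] at hdx; rw [hy11] at hdy
  suffices x.1 0 0 = y.1 0 0 ∧ x.1 0 1 = y.1 0 1 ∧ x.1 1 0 = y.1 1 0 from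
    Subtype.ext (ext_sl fun i j => by fin_cases i <;> fin_cases j <;> simp [this, hx11, hy11])
  rw [hf, hf] at h
  dsimp only at h
  by_cases zx : x.1 1 0 = 0 <;> by_cases zy : y.1 1 0 = 0
  · rw [if_pos zx, if_pos zy] at h
    rw [zx] at hdx; rw [zy] at hdy
    have ex := hi0 _ (show x.1 0 0 ^ 2 = -1 by linear_combination -hdx)
    have ey := hi0 _ (show y.1 0 0 ^ 2 = -1 by linear_combination -hdy)
    split_ifs at h with h1 h3 h3
    · simp at h; exact ⟨h1.trans h3.symm, h, zx.trans zy.symm⟩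
    · simp at h; exact ⟨(ex.resolve_left h1).trans (ey.resolve_left h3).symm, h, zx.trans zy.symm⟩
  · rw [if_pos zx, if_neg zy] at h
    split_ifs at h
    simp at h; exact absurd h.2.symm zy
  · rw [if_neg zx, if_pos zy] at h
    split_ifs at h
    simp at h; exact absurd h.2 zx
  · rw [if_neg zx, if_neg zy] at h
    simp at h
    refine ⟨h.1, ?_, h.2⟩
    rw [h.1, h.2] at hdx
    exact mul_right_cancel₀ zy (by linear_combination hdy - hdx)

theorem cN_eq (a : PSL₂) : cN a = Nat.card (Subgroup.centralizer ({a} : Set PSL₂)) :=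
  Nat.card_congr (Equiv.subtypeEquivRight fun g => by rw [Subgroup.mem_centralizer_singleton_iff])

/-- The centraliser of an involution has at least `q - 1` elements. -/
theorem le_cN (h2 : (2 : F) ≠ 0) {a : PSL₂} (ha : a ^ 2 = 1) (ha1 : a ≠ 1) :
    Fintype.card F - 1 ≤ cN a := by
  obtain ⟨C, hC⟩ : ∃ C, C = Subgroup.centralizer ({a} : Set PSL₂) := ⟨_, rfl⟩
  rw [cN_eq, ← hC]
  obtain ⟨A, hA⟩ := QuotientGroup.mk_surjective a
  obtain ⟨lift, hlift⟩ := Classical.axiomOfChoice fun g : PSL₂ => QuotientGroup.mk_surjective g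
  have hAt : trc A = 0 := trc_eq_zero_of_sq h2 (show pr A ≠ 1 from fun e => ha1 (hA.symm.trans e))
    (show pr A ^ 2 = 1 by rw [show pr A = a from hA]; exact ha)
  obtain ⟨f, hf⟩ : ∃ f : (PSL₂ ⧸ C) × Bool → {x : SL(2, F) // trc x = 0}, ∀ p, (f p).1 =
      if p.2 then lift p.1.out * A * (lift p.1.out)⁻¹ else -(lift p.1.out * A * (lift p.1.out)⁻¹) :=
    ⟨fun p => ⟨if p.2 then lift p.1.out * A * (lift p.1.out)⁻¹ else -(lift p.1.out * A * (lift p.1.out)⁻¹),
      by cases p.2 <;> simp [trc_neg, trc_conj, hAt]⟩, fun _ => rfl⟩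
  have hmem : ∀ u : PSL₂, u ∈ C ↔ u * a = a * u := fun u => by
    rw [hC]; exact Subgroup.mem_centralizer_singleton_iff
  have hinj : Function.Injective f := by
    intro p r h
    have h0 := congrArg Subtype.val h
    rw [hf, hf] at h0
    have hconj : p.1.out * a * p.1.out⁻¹ = r.1.out * a * r.1.out⁻¹ := by
      have h1 := congrArg pr h0
      simp only [apply_ite pr, pr_neg, ite_self] at h1
      rw [← hA, ← hlift p.1.out, ← hlift r.1.out]
      exact h1
    have h1 : p.1 = r.1 := by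
      rw [← p.1.out_eq, ← r.1.out_eq]
      refine QuotientGroup.eq.2 ?_
      rw [hmem]
      have := congrArg (fun u => p.1.out⁻¹ * u * r.1.out) hconj
      simp only [mul_assoc, inv_mul_cancel, mul_one, inv_mul_cancel_left] at this
      simpa [mul_assoc] using this.symm
    refine Prod.ext h1 ?_
    rw [h1] at h0
    by_contra hb
    obtain ⟨u, hu⟩ : ∃ u, u = lift r.1.out * A * (lift r.1.out)⁻¹ := ⟨_, rfl⟩
    rw [← hu] at h0
    have hne : u ≠ -u := fun e => by
      have hd := det_eq u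
      have e' : ∀ i j, u.1 i j = 0 := fun i j => (mul_eq_zero.1 (show (2 : F) * u.1 i j = 0 by
        have := congrArg (fun v : SL(2, F) => v.1 i j) e
        simp at this
        linear_combination this)).resolve_left h2
      rw [e', e', e'] at hd
      simp at hd
    rcases Bool.eq_false_or_eq_true p.2 with hp | hp <;> rcases Bool.eq_false_or_eq_true r.2 with hr | hr <;>
      rw [hp, hr] at h0 hb <;> simp at h0 hb
    · exact hne h0
    · exact hne h0.symm
  have hle := (Nat.card_le_card_of_injective f hinj).trans (card_trace_zero_le h2)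
  rw [Nat.card_prod, Nat.card_eq_fintype_card (α := Bool), Fintype.card_bool] at hle
  have hG := Dickson.card_psl_mul_two (F := F) rfl
  rw [Subgroup.card_eq_card_quotient_mul_card_subgroup C] at hG
  obtain ⟨q, hq⟩ : ∃ q, Fintype.card F = q + 1 := ⟨_, (Nat.succ_pred_eq_of_pos Fintype.card_pos).symm⟩
  rw [hq] at hle hG ⊢
  rw [show (q + 1) ^ 2 - 1 = q * (q + 2) by rw [show (q + 1) ^ 2 = q * (q + 2) + 1 by ring]; simp] at hG
  have h3 : (q + 1) * (q * (q + 2)) ≤ (q + 1) * (q + 2) * Nat.card C :=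
    hG.trans (le_trans (le_of_eq (by ring)) (Nat.mul_le_mul_right _ (hle.trans (le_of_eq (by ring)))))
  rw [Nat.add_sub_cancel]
  exact Nat.le_of_mul_le_mul_left (by linarith) (show 0 < (q + 1) * (q + 2) by positivity)

/-- A large element centralising an involution. -/
theorem exists_rotation (p : ℕ) [Fact p.Prime] [CharP F p] (h2 : (2 : F) ≠ 0) {a : PSL₂} (ha : a ^ 2 = 1) (ha1 : a ≠ 1) :
    ∃ r : PSL₂, r * a = a * r ∧ cN a ≤ 2 * orderOf r ∧ ¬ p ∣ orderOf r ∧
      ∀ y : SL(2, F), ∀ A : SL(2, F), pr A = a → y * A = A * y → pr y ∈ Subgroup.zpowers r := by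
  obtain ⟨A, hA⟩ := QuotientGroup.mk_surjective a
  have hAt : trc A = 0 := trc_eq_zero_of_sq h2 (show pr A ≠ 1 from fun e => ha1 (hA.symm.trans e))
    (show pr A ^ 2 = 1 by rw [show pr A = a from hA]; exact ha)
  have h40 : (4 : F) ≠ 0 := by rw [show (4 : F) = 2 * 2 by norm_num]; exact mul_ne_zero h2 h2
  have ht : trc A ^ 2 ≠ 4 := by rw [hAt, zero_pow two_ne_zero]; exact h40.symm
  have hns := not_isScalar_of_trc ht
  obtain ⟨⟨g0, hg0⟩⟩ := CfsgLib.Classical.Two.isCyclic_centralizer (x := A) hns ht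
  refine ⟨pr g0.1, ?_, ?_, ?_, ?_⟩
  · rw [← hA]
    exact congrArg pr (Subgroup.mem_centralizer_singleton_iff.1 g0.2)
  rotate_right
  · intro y A' hA' hy
    have hyA : y * A = A * y := by
      rcases pr_eq_iff.1 (hA'.trans hA.symm) with e | e
      · rw [e]; exact hy
      · rw [e, mul_neg, neg_mul, hy]
    obtain ⟨k, hk⟩ := Subgroup.mem_zpowers_iff.1 (hg0 ⟨y, Subgroup.mem_centralizer_singleton_iff.2 hyA⟩)
    refine Subgroup.mem_zpowers_iff.2 ⟨k, ?_⟩
    rw [show y = ((g0 ^ k : Subgroup.centralizer ({A} : Set SL(2, F))) : SL(2, F)) by rw [hk], Subgroup.coe_zpow]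
    rfl
  · have hK : ∀ g : PSL₂, g * a = a * g → (∃ y : SL(2, F), pr y = g ∧ y * A = A * y) ∨
        ∃ y : SL(2, F), pr y = g ∧ y * A = -(A * y) := fun g hg => by
      obtain ⟨y, rfl⟩ := QuotientGroup.mk_surjective g
      rw [← hA] at hg
      exact (pr_commute hg).imp (fun h => ⟨y, rfl, h⟩) fun h => ⟨y, rfl, h⟩
    have hz : ∀ y : SL(2, F), y * A = A * y → pr y ∈ Subgroup.zpowers (pr g0.1) := fun y hyA => by
      obtain ⟨k, hk⟩ := Subgroup.mem_zpowers_iff.1 (hg0 ⟨y, Subgroup.mem_centralizer_singleton_iff.2 hyA⟩)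
      refine Subgroup.mem_zpowers_iff.2 ⟨k, ?_⟩
      rw [show y = ((g0 ^ k : Subgroup.centralizer ({A} : Set SL(2, F))) : SL(2, F)) by rw [hk], Subgroup.coe_zpow]
      rfl
    obtain ⟨w, hw⟩ : ∃ w : PSL₂, ∀ y : SL(2, F), y * A = -(A * y) → pr y * w ∈ Subgroup.zpowers (pr g0.1) := by
      by_cases h : ∃ y : SL(2, F), y * A = -(A * y)
      · obtain ⟨w, hw⟩ := h
        refine ⟨pr w, fun y hy => hz (y * w) ?_⟩
        calc y * w * A = y * (w * A) := mul_assoc _ _ _
          _ = -(y * A * w) := by rw [hw, mul_neg, mul_assoc]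
          _ = A * (y * w) := by rw [hy, neg_mul, neg_neg, mul_assoc]
      · exact ⟨1, fun y hy => absurd ⟨y, hy⟩ h⟩
    classical
    obtain ⟨f, hf⟩ : ∃ f : {g : PSL₂ // g * a = a * g} → Subgroup.zpowers (pr g0.1) × Bool,
        ∀ g, (g.1 = (f g).1.1 ∧ (f g).2 = true) ∨ (g.1 * w = (f g).1.1 ∧ (f g).2 = false) := by
      refine Classical.axiomOfChoice (r := fun (g : {g : PSL₂ // g * a = a * g}) (u : Subgroup.zpowers (pr g0.1) × Bool) =>
        (g.1 = u.1.1 ∧ u.2 = true) ∨ (g.1 * w = u.1.1 ∧ u.2 = false)) fun g => ?_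
      rcases hK g.1 g.2 with ⟨y, hy, hyA⟩ | ⟨y, hy, hyA⟩
      · exact ⟨(⟨g.1, hy ▸ hz y hyA⟩, true), Or.inl ⟨rfl, rfl⟩⟩
      · exact ⟨(⟨g.1 * w, hy ▸ hw y hyA⟩, false), Or.inr ⟨rfl, rfl⟩⟩
    refine le_trans (Nat.card_le_card_of_injective f fun g k h => ?_) (le_of_eq (by
      rw [Nat.card_prod, Nat.card_zpowers, Nat.card_eq_fintype_card (α := Bool), Fintype.card_bool, mul_comm]))
    rcases hf g with ⟨e1, b1⟩ | ⟨e1, b1⟩ <;> rcases hf k with ⟨e3, b3⟩ | ⟨e3, b3⟩ <;> rw [h] at e1 b1 <;>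
      first
      | exact absurd (b1.symm.trans b3) (by decide)
      | exact Subtype.ext (e1.trans e3.symm)
      | exact Subtype.ext (mul_right_cancel (e1.trans e3.symm))
  · intro hdvd
    obtain ⟨⟨u, hu0⟩, hu⟩ := exists_prime_orderOf_dvd_card' (G := Subgroup.zpowers (pr g0.1)) p
      (by rwa [Nat.card_zpowers])
    obtain ⟨k, rfl⟩ := Subgroup.mem_zpowers_iff.1 hu0
    have hpow := pow_orderOf_eq_one (⟨pr g0.1 ^ k, hu0⟩ : Subgroup.zpowers (pr g0.1))
    rw [hu] at hpow
    have h1 : pr ((g0.1 ^ k) ^ p) = 1 := congrArg Subtype.val hpow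
    obtain ⟨y, hy⟩ : ∃ y, y = g0.1 ^ k := ⟨_, rfl⟩
    rw [← hy] at h1
    have hyA : A * y = y * A := by
      have := Subgroup.mem_centralizer_singleton_iff.1 (g0 ^ k).2
      rw [Subgroup.coe_zpow, ← hy] at this
      exact this.symm
    obtain ⟨α, β, e⟩ := commute_affine hns hyA
    have hp2 : p ≠ 2 := fun e => h2 (by
      have := CharP.cast_eq_zero F p
      rw [e] at this; exact_mod_cast this)
    obtain ⟨m, hm⟩ := (Fact.out : p.Prime).odd_of_ne_two hp2
    have hAp : (A : Matrix (Fin 2) (Fin 2) F) ^ p = (-1 : F) ^ m • (A : Matrix (Fin 2) (Fin 2) F) := by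
      rw [hm, pow_succ, pow_mul, pow_two, sq_eq, hAt, zero_smul, zero_sub,
        show (-1 : Matrix (Fin 2) (Fin 2) F) = (-1 : F) • 1 by simp, smul_pow, one_pow, smul_mul_assoc, one_mul]
    obtain ⟨e01, e10, e00⟩ := pr_eq_one_iff.1 h1
    rw [Matrix.SpecialLinearGroup.coe_pow, e, add_pow_char_of_commute (p := p) ((Commute.one_left _).smul_left α |>.smul_right β),
      smul_pow, one_pow, smul_pow, hAp, smul_smul] at e01 e10 e00
    simp at e01 e10 e00
    have hβ : β = 0 := by
      by_contra hb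
      refine hns ⟨?_, ?_, ?_⟩
      · simpa [hb] using e01
      · simpa [hb] using e10
      · exact e00.resolve_right fun h => hb h.1
    have h3 : pr g0.1 ^ k = 1 := by
      show pr (g0.1 ^ k) = 1
      rw [← hy]
      exact pr_eq_one_iff.2 (by simp [IsScalar, e, hβ])
    have : (⟨pr g0.1 ^ k, hu0⟩ : Subgroup.zpowers (pr g0.1)) = 1 := Subtype.ext h3
    rw [this, orderOf_one] at hu
    exact (Fact.out : p.Prime).one_lt.ne hu

end CfsgLib.Lie.BinaryPSL
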