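import Cfsg.Agent.Lib.Lie.BinaryPSL.Klein
import Cfsg.Agent.Lib.Classical.Dickson.PlatonicIff
import Cfsg.Agent.Lib.Classical.PSLTwoSimple

/-!
# Point stabilisers of even order, odd characteristic
-/

set_option autoImplicit false

namespace CfsgLib.Lie.BinaryPSL

open Matrix
open CfsgLib.Classical CfsgLib.Classical.Trace
open scoped MatrixGroups LinearAlgebra.Projectivization

local notation "S₄" => Equiv.Perm (Fin 4)

theorem perm_four_key : ∀ x : S₄, x ^ 2 = 1 → x ≠ 1 →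
    4 < (Finset.univ.filter fun g => g * x = x * g).card → ∀ y : S₄, y ^ 2 = 1 → y ≠ 1 → x * y = y * x → x ≠ y →
    ∀ g : S₄, g * x ≠ x * g →
      (∀ i, y i ≠ i) ∨ ∃ r ∈ [g * y * g, g * x * g * y * g * g], r ^ 2 ≠ 1 ∧
        (r ^ 2 = x ∨ r ^ 2 = y ∨ r ^ 2 = x * y) := by decide +kernel

theorem perm_four_swap :
    (Finset.univ.filter fun g : S₄ => g * Equiv.swap 0 1 = Equiv.swap 0 1 * g).card = 4 := by decide +kernel

theorem perm_four_sq : ∀ r : S₄, r ^ 2 ≠ 1 → (r ^ 2) ^ 2 = 1 → ∀ i, (r ^ 2) i ≠ i := by decide +kernel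

theorem perm_four_dt : ∀ d : S₄, d ^ 2 = 1 → (∀ i, d i ≠ i) → ∀ x : S₄, x ≠ 1 →
    ∃ z w : S₄, d = w * (x * z * x⁻¹ * z⁻¹) * w⁻¹ := by decide +kernel

/-- A double transposition lies in every nontrivial normal subgroup. -/
theorem dt_mem {G : Type*} [Group G] {M K : Subgroup G} (ψ : M ≃* S₄) (hKM : K ≤ M)
    (hn : M ≤ Subgroup.normalizer (K : Set G)) {a d : G} (ha : a ∈ K) (ha1 : a ≠ 1) (hd : d ∈ M)
    (h2 : ψ ⟨d, hd⟩ ^ 2 = 1) (hfix : ∀ i, ψ ⟨d, hd⟩ i ≠ i) : d ∈ K := by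
  obtain ⟨z, w, h⟩ := perm_four_dt _ h2 hfix (ψ ⟨a, hKM ha⟩)
    fun e => ha1 (congrArg Subtype.val (ψ.injective (e.trans (map_one ψ).symm)))
  have h0 : (⟨d, hd⟩ : M) = ψ.symm w * (⟨a, hKM ha⟩ * ψ.symm z * ⟨a, hKM ha⟩⁻¹ * (ψ.symm z)⁻¹) * (ψ.symm w)⁻¹ :=
    ψ.injective (by simpa using h)
  have h' := congrArg Subtype.val h0
  simp only [Subgroup.coe_mul, Subgroup.coe_inv] at h'
  rw [h']
  have e : a * (ψ.symm z : G) * a⁻¹ * (ψ.symm z : G)⁻¹ ∈ K := by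
    rw [mul_assoc a, mul_assoc a]
    exact mul_mem ha ((Subgroup.mem_normalizer_iff.1 (hn (ψ.symm z).2) a⁻¹).1 (inv_mem ha))
  exact (Subgroup.mem_normalizer_iff.1 (hn (ψ.symm w).2) _).1 e

variable {F : Type*} [Field F] [Fintype F]

local notation "PSL₂" => Matrix.ProjectiveSpecialLinearGroup (Fin 2) F

theorem exists_anticommuting (h2 : (2 : F) ≠ 0) {C : SL(2, F)} (hC : trc C = 0) :
    ∃ w : SL(2, F), w * C = -(C * w) := by
  obtain ⟨x, y, hxy⟩ := Dickson.exists_sq_add_sq_eq_neg_one (F := F)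
  obtain ⟨A0, hA0⟩ : ∃ A0 : SL(2, F), (A0 : Matrix (Fin 2) (Fin 2) F) = !![0, -1; 1, 0] :=
    ⟨⟨!![0, -1; 1, 0], by simp [Matrix.det_fin_two]⟩, rfl⟩
  obtain ⟨W0, hW0⟩ : ∃ W0 : SL(2, F), (W0 : Matrix (Fin 2) (Fin 2) F) = !![x, y; y, -x] :=
    ⟨⟨!![x, y; y, -x], by simp [Matrix.det_fin_two]; linear_combination -hxy⟩, rfl⟩
  have hA0t : trc A0 = 0 := by simp [trc, hA0]
  have h0 : (0 : F) ^ 2 ≠ 4 := by rw [zero_pow two_ne_zero]; exact (four_ne_zero' h2).symm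
  obtain ⟨u, hu⟩ := exists_conj (not_isScalar_of_trc (x := A0) (by rw [hA0t]; exact h0))
    (not_isScalar_of_trc (x := C) (by rw [hC]; exact h0)) (hC.trans hA0t.symm)
    (normSurj_finite (by rw [hA0t]; exact h0))
  have hW : W0 * A0 = -(A0 * W0) := by
    refine ext_sl fun i j => ?_
    fin_cases i <;> fin_cases j <;> simp [hA0, hW0, Matrix.mul_apply, Fin.sum_univ_two]
  refine ⟨u * W0 * u⁻¹, ?_⟩
  rw [← hu, show u * W0 * u⁻¹ * (u * A0 * u⁻¹) = u * (W0 * A0) * u⁻¹ by group, hW,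
    show u * A0 * u⁻¹ * (u * W0 * u⁻¹) = u * (A0 * W0) * u⁻¹ by group, mul_neg, neg_mul]

omit [Fintype F] in
theorem anti_involution (h2 : (2 : F) ≠ 0) {C y : SL(2, F)} (h : y * C = -(C * y)) :
    pr y ^ 2 = 1 ∧ pr y ≠ 1 ∧ Commute (pr y) (pr C) ∧ pr y ≠ pr C := by
  refine ⟨?_, fun e => not_commute_of_anti h2 h ?_, ?_, fun e => not_commute_of_anti h2 h ?_⟩
  · have h1 := trc_eq_zero_of_anti h2 h
    have e : y * y = -1 := Subtype.ext (by
      show (y : Matrix (Fin 2) (Fin 2) F) * y = ((-1 : SL(2, F)) : Matrix (Fin 2) (Fin 2) F)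
      rw [mat_sq h1, Matrix.SpecialLinearGroup.coe_neg, Matrix.SpecialLinearGroup.coe_one])
    rw [pow_two]
    show pr (y * y) = 1
    rw [e, pr_neg]; rfl
  · rcases eq_of_isScalar (pr_eq_one_iff.1 e) with rfl | rfl <;> simp
  · show pr y * pr C = pr C * pr y
    show pr (y * C) = pr (C * y)
    rw [h, pr_neg]
  · rcases pr_eq_iff.1 e with rfl | rfl <;> simp

theorem involutions_conj (h2 : (2 : F) ≠ 0) {a b : PSL₂} (ha : a ^ 2 = 1) (ha1 : a ≠ 1) (hb : b ^ 2 = 1)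
    (hb1 : b ≠ 1) : ∃ m, m * a * m⁻¹ = b := by
  obtain ⟨A, rfl⟩ := QuotientGroup.mk_surjective a
  obtain ⟨B, rfl⟩ := QuotientGroup.mk_surjective b
  have hA := trc_eq_zero_of_sq h2 ha1 ha
  exact exists_conj_pr (by rw [hA, zero_pow two_ne_zero]; exact (four_ne_zero' h2).symm)
    (Or.inl (by rw [hA, trc_eq_zero_of_sq h2 hb1 hb]))

/-- Some involution centralised by an involution of the subgroup lies outside it. -/
theorem exists_outside (p : ℕ) [Fact p.Prime] [CharP F p] (h2 : (2 : F) ≠ 0) (hq : 7 ≤ Fintype.card F)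
    {H : Subgroup PSL₂} (hH : H ≠ ⊤) {c : PSL₂} (hc : c ∈ H) (hc2 : c ^ 2 = 1) (hc1 : c ≠ 1) :
    ∃ c a : PSL₂, c ∈ H ∧ a ∉ H ∧ c ^ 2 = 1 ∧ c ≠ 1 ∧ a ^ 2 = 1 ∧ a ≠ 1 ∧ Commute a c ∧ a ≠ c := by
  classical
  by_contra hno
  push Not at hno
  have hCH : ∀ x ∈ H, x ^ 2 = 1 → x ≠ 1 → ∃ w ∈ H, w ^ 2 = 1 ∧ w ≠ 1 ∧ Commute x w ∧ x ≠ w ∧
      ∀ g, g * x = x * g → g ∈ H := by
    intro x hx hx2 hx1
    obtain ⟨C, rfl⟩ := QuotientGroup.mk_surjective x
    obtain ⟨w, hw⟩ := exists_anticommuting h2 (trc_eq_zero_of_sq h2 hx1 hx2)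
    have hin : ∀ y : SL(2, F), y * C = -(C * y) → pr y ∈ H := fun y hy => by
      obtain ⟨e1, e2, e3, e4⟩ := anti_involution h2 hy
      by_contra hyH
      exact e4 (hno _ _ hx hyH hx2 hx1 e1 e2 e3)
    obtain ⟨e1, e2, e3, e4⟩ := anti_involution h2 hw
    refine ⟨pr w, hin w hw, e1, e2, e3.symm, e4.symm, fun g hg => ?_⟩
    obtain ⟨G, rfl⟩ := QuotientGroup.mk_surjective g
    rcases pr_commute (show Commute (pr G) (pr C) from hg) with h | h
    · have := hin (G * w) (by rw [mul_assoc, hw, mul_neg, ← mul_assoc, h, mul_assoc])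
      exact (H.mul_mem_cancel_right (hin w hw)).1 this
    · exact hin G h
  obtain ⟨w, hw, hw2, hw1, hcw, hne, hCc⟩ := hCH c hc hc2 hc1
  rcases involution_subgroup_cases p h2 hq hc2 hc1 hw2 hw1 hcw hne hH hCc with hsub | ⟨⟨ψ⟩, -⟩
  · obtain ⟨-, -, -, -, -, -, hCw⟩ := hCH w hw hw2 hw1
    have h4 : cN w ≤ 4 := by
      obtain ⟨f, hf⟩ : ∃ f : {g : PSL₂ // g * w = w * g} → Fin 4, ∀ g, g.1 = ![1, c, w, c * w] (f g) := by
        refine Classical.axiomOfChoice (r := fun (g : {g : PSL₂ // g * w = w * g}) i => g.1 = ![1, c, w, c * w] i)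
          fun g => ?_
        rcases klein_centralizer h2 hc2 hc1 hw2 hw1 hcw hne (hsub g.1 (hCw g.1 g.2)) g.2 with e | e | e | e
        exacts [⟨0, e⟩, ⟨1, e⟩, ⟨2, e⟩, ⟨3, e⟩]
      exact (Nat.card_le_card_of_injective f fun g k h => Subtype.ext (by rw [hf g, hf k, h])).trans (by simp)
    have := le_cN h2 hw2 hw1
    omega
  · obtain ⟨t, ht⟩ : ∃ t, t = ψ.symm (Equiv.swap 0 1) := ⟨_, rfl⟩
    have ht2 : (t : PSL₂) ^ 2 = 1 := by
      rw [← Subgroup.coe_pow, ht, ← map_pow, show Equiv.swap (0 : Fin 4) 1 ^ 2 = 1 by decide, map_one]; rfl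
    have ht1 : (t : PSL₂) ≠ 1 := fun e => by
      have : ψ t = ψ 1 := congrArg ψ (Subtype.ext e)
      rw [ht, ψ.apply_symm_apply, map_one] at this
      exact absurd this (by decide)
    obtain ⟨-, -, -, -, -, -, hCt⟩ := hCH _ t.2 ht2 ht1
    have h4 : cN (t : PSL₂) ≤ 4 := by
      rw [← perm_four_swap, ← Fintype.card_subtype, ← Nat.card_eq_fintype_card]
      have hψt : ψ t = Equiv.swap 0 1 := by rw [ht, ψ.apply_symm_apply]
      refine Nat.card_le_card_of_injective (fun g => ⟨ψ ⟨g.1, hCt g.1 g.2⟩, ?_⟩) fun g k h => ?_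
      · rw [← hψt, ← map_mul, ← map_mul]; exact congrArg ψ (Subtype.ext g.2)
      · exact Subtype.ext (congrArg Subtype.val (ψ.injective (congrArg Subtype.val h)) :)
    have := le_cN h2 ht2 ht1
    omega

/-- A point stabiliser of even order in odd characteristic. -/
theorem not_binary_odd_even (p : ℕ) [Fact p.Prime] [CharP F p] (h2 : (2 : F) ≠ 0) (hq : 7 ≤ Fintype.card F)
    {H : Subgroup PSL₂} (hH : H ≠ ⊤) {c : PSL₂} (hc : c ∈ H) (hc2 : c ^ 2 = 1) (hc1 : c ≠ 1) :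
    ¬ Binary PSL₂ (PSL₂ ⧸ H) := by
  classical
  obtain ⟨c, a, hc, haH, hc2, hc1, ha2, ha1, hac, hne⟩ := exists_outside p h2 hq hH hc hc2 hc1
  obtain ⟨b, hb⟩ : ∃ b, b = a * c := ⟨_, rfl⟩
  have hb2 : b ^ 2 = 1 := by rw [hb, hac.mul_pow, ha2, hc2, one_mul]
  have hb1 : b ≠ 1 := fun e => hne (by
    rw [hb, mul_eq_one_iff_eq_inv] at e
    rw [e]; exact inv_eq_of_mul_eq_one_right (by rw [← pow_two, hc2]))
  have hab : Commute a b := by rw [hb]; exact (Commute.refl a).mul_right hac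
  have hab' : a ≠ b := fun e => hc1 (by rw [hb] at e; simpa using e)
  have hc' : c = a * b := by rw [hb, ← mul_assoc, ← pow_two, ha2, one_mul]
  have hbH : b ∉ H := fun h => haH (by
    have := mul_mem h (inv_mem hc)
    rwa [hb, mul_inv_cancel_right] at this)
  obtain ⟨m, m1, m2, m3⟩ := exists_three_cycle h2 ha2 ha1 hb2 hb1 hab hab'
  rw [← hc'] at m2 m3
  obtain ⟨z, hz⟩ : ∃ z : PSL₂ ⧸ H, z = ((1 : PSL₂) : PSL₂ ⧸ H) := ⟨_, rfl⟩
  have hcz : c • z = z := by rw [hz]; exact smul_one_eq_iff.2 hc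
  have haz : a • z ≠ z := by rw [hz]; exact fun e => haH (smul_one_eq_iff.1 e)
  have hin : ∀ g, g • z = z → g ∈ H := fun g h => smul_one_eq_iff.1 (hz ▸ h)
  have hab1 : b ∉ fixer (PSL₂ ⧸ H) a := fun h => by
    have h1 : c ∈ fixer (PSL₂ ⧸ H) b := by simpa [m1, m2] using conj_mem_fixer m h
    have h3 : a ∈ fixer (PSL₂ ⧸ H) c := by simpa [m2, m3] using conj_mem_fixer m h1
    exact haH (hin a (mem_fixer.1 h3 z hcz))
  have hba1 : a ∉ fixer (PSL₂ ⧸ H) b := fun h => by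
    have h1 : b ∈ fixer (PSL₂ ⧸ H) c := by simpa [m1, m2] using conj_mem_fixer m h
    exact hbH (hin b (mem_fixer.1 h1 z hcz))
  refine not_binary_set a b z (by rwa [hb, inv_mul_cancel_left]) fun g hga hgb hgz => ?_
  -- stabilisers of fixer and centraliser
  have hsimple : IsSimpleGroup PSL₂ := isSimpleGroup_PSL_two (by omega)
  have big : ∀ x : PSL₂, x ^ 2 = 1 → x ≠ 1 → ∀ y : PSL₂, y ^ 2 = 1 → y ≠ 1 → Commute x y → x ≠ y →
      ∃ M : Subgroup PSL₂, (∀ g, g * x = x * g → g ∈ M) ∧ fixer (PSL₂ ⧸ H) x ≤ M ∧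
        M ≤ Subgroup.normalizer (fixer (PSL₂ ⧸ H) x : Set PSL₂) ∧
        ((∀ g ∈ M, g * x = x * g) ∨ (Nonempty (M ≃* S₄) ∧ cN x ≤ 8)) := by
    intro x hx2 hx1 y hy2 hy1 hxy hxy'
    obtain ⟨M, hMdef⟩ : ∃ M, M = fixer (PSL₂ ⧸ H) x ⊔ Subgroup.centralizer ({x} : Set PSL₂) := ⟨_, rfl⟩
    have hnorm : M ≤ Subgroup.normalizer (fixer (PSL₂ ⧸ H) x : Set PSL₂) := by
      rw [hMdef]
      refine sup_le Subgroup.le_normalizer fun u hu => ?_
      have hu' : u * x = x * u := Subgroup.mem_centralizer_singleton_iff.1 hu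
      refine Subgroup.mem_normalizer_iff.2 fun k => ⟨fun hk => ?_, fun hk => ?_⟩
      · have := conj_mem_fixer u hk
        rwa [show u * x * u⁻¹ = x from mul_inv_eq_iff_eq_mul.2 hu'] at this
      · have := conj_mem_fixer u⁻¹ hk
        rw [inv_inv, show u⁻¹ * x * u = x by rw [mul_assoc, ← hu', inv_mul_cancel_left],
          show u⁻¹ * (u * k * u⁻¹) * u = k by group] at this
        exact this
    have hle : ∀ g, g * x = x * g → g ∈ M := fun g hg => by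
      rw [hMdef]; exact Subgroup.mem_sup_right (Subgroup.mem_centralizer_singleton_iff.2 hg)
    refine ⟨M, hle, by rw [hMdef]; exact le_sup_left, hnorm,
      involution_subgroup_cases p h2 hq hx2 hx1 hy2 hy1 hxy hxy' (fun hT => ?_) hle⟩
    have hN : (fixer (PSL₂ ⧸ H) x).Normal := Subgroup.normalizer_eq_top_iff.1 (top_le_iff.1 (hT ▸ hnorm))
    rcases hN.eq_bot_or_eq_top with h | h
    · exact hx1 (Subgroup.mem_bot.1 (h ▸ self_mem_fixer x))
    · obtain ⟨u, hu⟩ := involutions_conj h2 hc2 hc1 hx2 hx1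
      have hxfix : x • (u • z) = u • z := by
        rw [← hu, mul_smul, mul_smul, inv_smul_smul, hcz]
      refine hH (eq_top_iff.2 fun k _ => hin k ?_)
      have := mem_fixer.1 (h ▸ Subgroup.mem_top (u * k * u⁻¹) : u * k * u⁻¹ ∈ fixer (PSL₂ ⧸ H) x) _ hxfix
      rwa [mul_smul, mul_smul, inv_smul_smul, smul_left_cancel_iff] at this
  have hV : ¬ (g * a = a * g ∧ g * b = b * g) := fun ⟨h1, h3⟩ => by
    rcases klein_centralizer h2 ha2 ha1 hb2 hb1 hab hab' h1 h3 with rfl | rfl | rfl | rfl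
    · exact haz (by rw [← hgz, one_smul])
    · exact hba1 hgb
    · exact hab1 hga
    · rw [← hc'] at hgz; exact haz (hgz.symm.trans hcz)
  -- the two symmetric cases
  have main : ∀ x y : PSL₂, x ^ 2 = 1 → x ≠ 1 → y ^ 2 = 1 → y ≠ 1 → Commute x y → x ≠ y →
      y ∉ fixer (PSL₂ ⧸ H) x → x ∉ fixer (PSL₂ ⧸ H) y →
      g ∈ fixer (PSL₂ ⧸ H) x → g ∈ fixer (PSL₂ ⧸ H) y → g * x = x * g := by
    intro x y hx2 hx1 hy2 hy1 hxy hxy' hyx hxy1 hgx hgy
    obtain ⟨M, hCM, hFM, hnM, hcase⟩ := big x hx2 hx1 y hy2 hy1 hxy hxy'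
    rcases hcase with hsub | ⟨⟨ψ⟩, -⟩
    · exact hsub g (hFM hgx)
    by_contra hgc
    have hxM : x ∈ M := hCM x rfl
    have hyM : y ∈ M := hCM y hxy.eq.symm
    have hgM : g ∈ M := hFM hgx
    obtain ⟨xs, hxs⟩ : ∃ xs, xs = ψ ⟨x, hxM⟩ := ⟨_, rfl⟩
    obtain ⟨ys, hys⟩ : ∃ ys, ys = ψ ⟨y, hyM⟩ := ⟨_, rfl⟩
    have e1 : xs ^ 2 = 1 := by rw [hxs, ← map_pow, show (⟨x, hxM⟩ : M) ^ 2 = 1 from Subtype.ext hx2, map_one]
    have e2 : xs ≠ 1 := fun e => hx1 (congrArg Subtype.val (ψ.injective ((hxs ▸ e).trans (map_one ψ).symm)))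
    have e3 : ys ^ 2 = 1 := by rw [hys, ← map_pow, show (⟨y, hyM⟩ : M) ^ 2 = 1 from Subtype.ext hy2, map_one]
    have e4 : ys ≠ 1 := fun e => hy1 (congrArg Subtype.val (ψ.injective ((hys ▸ e).trans (map_one ψ).symm)))
    have e5 : xs * ys = ys * xs := by rw [hxs, hys, ← map_mul, ← map_mul]; exact congrArg ψ (Subtype.ext hxy.eq)
    have e6 : xs ≠ ys := fun e => hxy' (congrArg Subtype.val (ψ.injective (hxs ▸ hys ▸ e)))
    have e7 : 4 < (Finset.univ.filter fun u => u * xs = xs * u).card := by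
      have h6 := le_cN h2 hx2 hx1
      have : cN x ≤ Nat.card {u : S₄ // u * xs = xs * u} := by
        refine Nat.card_le_card_of_injective (fun u => ⟨ψ ⟨u.1, hCM u.1 u.2⟩, ?_⟩) fun u k h => ?_
        · rw [hxs, ← map_mul, ← map_mul]; exact congrArg ψ (Subtype.ext u.2)
        · exact Subtype.ext (congrArg Subtype.val (ψ.injective (congrArg Subtype.val h)) :)
      rw [Nat.card_eq_fintype_card, Fintype.card_subtype] at this
      omega
    have e8 : ψ ⟨g, hgM⟩ * xs ≠ xs * ψ ⟨g, hgM⟩ := fun e => hgc (by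
      rw [hxs, ← map_mul, ← map_mul] at e
      exact congrArg Subtype.val (ψ.injective e))
    have hsqmem : ∀ (r : PSL₂) (hr : r ∈ M), r ^ 2 ≠ 1 → (r ^ 2) ^ 2 = 1 → r ^ 2 ∈ fixer (PSL₂ ⧸ H) x :=
      fun r hr h1 h3 => by
      have f1 : ψ ⟨r ^ 2, pow_mem hr 2⟩ = ψ ⟨r, hr⟩ ^ 2 := by rw [← map_pow]; rfl
      refine dt_mem ψ hFM hnM (self_mem_fixer x) hx1 (pow_mem hr 2) ?_ ?_
      · rw [← map_pow, show (⟨r ^ 2, pow_mem hr 2⟩ : M) ^ 2 = 1 from Subtype.ext h3, map_one]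
      · rw [f1]
        refine perm_four_sq _ (fun e => h1 ?_) ?_
        · rw [← f1] at e
          exact congrArg Subtype.val (ψ.injective (e.trans (map_one ψ).symm))
        · rw [← f1, ← map_pow, show (⟨r ^ 2, pow_mem hr 2⟩ : M) ^ 2 = 1 from Subtype.ext h3, map_one]
    have hy_DT : (∀ i, ys i ≠ i) → False := fun h =>
      hyx (dt_mem ψ hFM hnM (self_mem_fixer x) hx1 hyM (hys ▸ e3) (hys ▸ h))
    rcases perm_four_key xs e1 e2 e7 ys e3 e4 e5 e6 _ e8 with h | ⟨r, hr, hr1, hr2⟩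
    · exact hy_DT h
    obtain ⟨N, hCN, hFN, hnN, hcaseN⟩ := big y hy2 hy1 x hx2 hx1 hxy.symm (Ne.symm hxy')
    obtain ⟨R, hRM, hRN, hRr⟩ : ∃ R, ∃ hRM : R ∈ M, R ∈ N ∧ ψ ⟨R, hRM⟩ = r := by
      have hxN : x ∈ N := hCN x hxy.eq
      have hyN : y ∈ N := hCN y rfl
      have hgN : g ∈ N := hFN hgy
      simp only [List.mem_cons, List.not_mem_nil, or_false] at hr
      rcases hr with rfl | rfl
      · exact ⟨g * y * g, mul_mem (mul_mem hgM hyM) hgM, mul_mem (mul_mem hgN hyN) hgN, by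
          rw [hys, ← map_mul, ← map_mul]; rfl⟩
      · exact ⟨g * x * g * y * g * g, mul_mem (mul_mem (mul_mem (mul_mem (mul_mem hgM hxM) hgM) hyM) hgM) hgM,
          mul_mem (mul_mem (mul_mem (mul_mem (mul_mem hgN hxN) hgN) hyN) hgN) hgN, by
          rw [hxs, hys, ← map_mul, ← map_mul, ← map_mul, ← map_mul, ← map_mul]; rfl⟩
    have hsq : ∀ (w : PSL₂) (hw : w ∈ M), r ^ 2 = ψ ⟨w, hw⟩ → R ^ 2 = w := fun w hw e => by
      rw [← hRr, ← map_pow] at e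
      exact congrArg Subtype.val (ψ.injective e)
    have hR1 : R ^ 2 ≠ 1 := fun e => hr1 (by
      rw [← hRr, ← map_pow, show (⟨R, hRM⟩ : M) ^ 2 = 1 from Subtype.ext e, map_one])
    rcases hr2 with h | h | h
    · have hR : R ^ 2 = x := hsq x hxM (h.trans hxs)
      rcases hcaseN with hsubN | ⟨⟨φ⟩, -⟩
      · rcases klein_centralizer h2 hx2 hx1 hy2 hy1 hxy hxy'
          (by rw [← hR, pow_two, mul_assoc]) (hsubN R hRN) with e | e | e | e <;> rw [e] at hR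
        · exact hx1 (by rw [← hR, one_pow])
        · exact hx1 (by rw [← hR, hx2])
        · exact hx1 (by rw [← hR, hy2])
        · exact hx1 (by rw [← hR, hxy.mul_pow, hx2, hy2, one_mul])
      · refine hxy1 ?_
        have f1 : φ ⟨R ^ 2, pow_mem hRN 2⟩ = φ ⟨R, hRN⟩ ^ 2 := by rw [← map_pow]; rfl
        rw [← hR]
        refine dt_mem φ hFN hnN (self_mem_fixer y) hy1 (pow_mem hRN 2) ?_ ?_
        · rw [← map_pow, show (⟨R ^ 2, pow_mem hRN 2⟩ : N) ^ 2 = 1 from Subtype.ext (by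
            show (R ^ 2) ^ 2 = 1
            rw [hR, hx2]), map_one]
        · rw [f1]
          refine perm_four_sq _ (fun e => hR1 ?_) ?_
          · rw [← f1] at e
            exact congrArg Subtype.val (φ.injective (e.trans (map_one φ).symm))
          · rw [← f1, ← map_pow, show (⟨R ^ 2, pow_mem hRN 2⟩ : N) ^ 2 = 1 from Subtype.ext (by
              show (R ^ 2) ^ 2 = 1
              rw [hR, hx2]), map_one]
    · have hR : R ^ 2 = y := hsq y hyM (h.trans hys)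
      exact hyx (hR ▸ hsqmem R hRM hR1 (by rw [hR, hy2]))
    · have hR : R ^ 2 = x * y := hsq (x * y) (mul_mem hxM hyM) (by rw [h, hxs, hys, ← map_mul]; rfl)
      have h5 := mul_mem (self_mem_fixer (X := PSL₂ ⧸ H) x) (hsqmem R hRM hR1 (by
        rw [hR, hxy.mul_pow, hx2, hy2, one_mul]))
      rw [hR, ← mul_assoc, ← pow_two, hx2, one_mul] at h5
      exact hyx h5
  exact hV ⟨main a b ha2 ha1 hb2 hb1 hab hab' hab1 hba1 hga hgb,
    main b a hb2 hb1 ha2 ha1 hab.symm (Ne.symm hab') hba1 hab1 hgb hga⟩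

end CfsgLib.Lie.BinaryPSL
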