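import Cfsg.Agent.Lib.Lie.BinaryPSL.OddCentralizer
import Cfsg.Agent.Lib.Classical.Dickson.ClassifyPlatonic

/-!
# The subgroups of `PSL₂` above the centraliser of an involution
-/

set_option autoImplicit false

namespace CfsgLib.Lie.BinaryPSL

open Matrix
open CfsgLib.Classical CfsgLib.Classical.Trace
open scoped MatrixGroups LinearAlgebra.Projectivization

variable {F : Type*} [Field F] [Fintype F]

local notation "PSL₂" => Matrix.ProjectiveSpecialLinearGroup (Fin 2) F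

omit [Fintype F] in
theorem four_ne_zero' (h2 : (2 : F) ≠ 0) : (4 : F) ≠ 0 := by
  rw [show (4 : F) = 2 * 2 by norm_num]; exact mul_ne_zero h2 h2

omit [Fintype F] in
/-- Lifts of two commuting involutions anticommute. -/
theorem anticommute (h2 : (2 : F) ≠ 0) {A B : SL(2, F)} (ha : pr A ^ 2 = 1) (ha1 : pr A ≠ 1) (hb : pr B ^ 2 = 1)
    (hb1 : pr B ≠ 1) (hab : Commute (pr A) (pr B)) (hne : pr A ≠ pr B) : A * B = -(B * A) := by
  refine (pr_commute hab).resolve_left fun h => ?_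
  have hAt := trc_eq_zero_of_sq h2 ha1 ha
  have hBt := trc_eq_zero_of_sq h2 hb1 hb
  rcases eq_or_inv_of_commute (by rw [hAt, zero_pow two_ne_zero]; exact (four_ne_zero' h2).symm) h
    (by rw [hAt, hBt]) with e | e
  · exact hne (by rw [e])
  · refine hne ?_
    rw [e, show pr A⁻¹ = (pr A)⁻¹ from rfl, eq_inv_iff_mul_eq_one, ← pow_two, ha]

omit [Fintype F] in
theorem smul_pr_mk (A : SL(2, F)) {v : Fin 2 → F} (hv : v ≠ 0) (hw : (A : Matrix (Fin 2) (Fin 2) F) *ᵥ v ≠ 0) :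
    pr A • Projectivization.mk F v hv = Projectivization.mk F ((A : Matrix (Fin 2) (Fin 2) F) *ᵥ v) hw := rfl

omit [Fintype F] in
theorem mulVec_ne_zero (A : SL(2, F)) {v : Fin 2 → F} (hv : v ≠ 0) : (A : Matrix (Fin 2) (Fin 2) F) *ᵥ v ≠ 0 := by
  intro h
  apply hv
  have := congrArg (fun u => ((A⁻¹ : SL(2, F)) : Matrix (Fin 2) (Fin 2) F) *ᵥ u) h
  simp only [Matrix.mulVec_mulVec, ← Matrix.SpecialLinearGroup.coe_mul, inv_mul_cancel,
    Matrix.SpecialLinearGroup.coe_one, Matrix.one_mulVec, Matrix.mulVec_zero] at this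
  exact this

omit [Fintype F] in
/-- Two commuting involutions fix no common point. -/
theorem not_common_fixed (h2 : (2 : F) ≠ 0) {a b : PSL₂} (ha : a ^ 2 = 1) (ha1 : a ≠ 1) (hb : b ^ 2 = 1)
    (hb1 : b ≠ 1) (hab : Commute a b) (hne : a ≠ b) (x : ℙ F (Fin 2 → F)) (hxa : a • x = x) : b • x ≠ x := by
  intro hxb
  obtain ⟨A, rfl⟩ := QuotientGroup.mk_surjective a
  obtain ⟨B, rfl⟩ := QuotientGroup.mk_surjective b
  induction x using Projectivization.ind with | _ v hv =>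
  rw [smul_pr_mk A hv (mulVec_ne_zero A hv), Projectivization.mk_eq_mk_iff'] at hxa
  rw [smul_pr_mk B hv (mulVec_ne_zero B hv), Projectivization.mk_eq_mk_iff'] at hxb
  obtain ⟨μ, hμ⟩ := hxa
  obtain ⟨l, hl⟩ := hxb
  have h := congrArg (fun u : SL(2, F) => (u : Matrix (Fin 2) (Fin 2) F) *ᵥ v)
    (anticommute h2 ha ha1 hb hb1 hab hne)
  simp only [Matrix.SpecialLinearGroup.coe_neg, Matrix.SpecialLinearGroup.coe_mul, Matrix.neg_mulVec,
    ← Matrix.mulVec_mulVec, ← hμ, ← hl, Matrix.mulVec_smul, smul_smul] at h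
  have h0 : (2 * (l * μ)) • v = 0 := by linear_combination (norm := module) h
  rcases smul_eq_zero.1 h0 with e | e
  · rcases mul_eq_zero.1 ((mul_eq_zero.1 e).resolve_left h2) with e | e
    · exact mulVec_ne_zero B hv (by rw [← hl, e, zero_smul])
    · exact mulVec_ne_zero A hv (by rw [← hμ, e, zero_smul])
  · exact hv e

/-- A subgroup above the centraliser of an involution. -/
theorem involution_subgroup_cases (p : ℕ) [Fact p.Prime] [CharP F p] (h2 : (2 : F) ≠ 0)
    (hq : 7 ≤ Fintype.card F) {a b : PSL₂} (ha : a ^ 2 = 1) (ha1 : a ≠ 1) (hb : b ^ 2 = 1)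
    (hb1 : b ≠ 1) (hab : Commute a b) (hne : a ≠ b) {M : Subgroup PSL₂} (hM : M ≠ ⊤)
    (hC : ∀ g, g * a = a * g → g ∈ M) :
    (∀ g ∈ M, g * a = a * g) ∨ (Nonempty (M ≃* Equiv.Perm (Fin 4)) ∧ cN a ≤ 8) := by
  classical
  obtain ⟨q, hF⟩ : ∃ q, Fintype.card F = q := ⟨_, rfl⟩
  rw [hF] at hq
  have hN : q - 1 ≤ cN a := hF ▸ le_cN h2 ha ha1
  obtain ⟨r, hr, hrN, hrp, -⟩ := exists_rotation p h2 ha ha1
  have hrM : r ∈ M := hC r hr
  have haM : a ∈ M := hC a rfl
  have hbM : b ∈ M := hC b hab.eq.symm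
  have hcount : ∀ {Γ : Type} [Group Γ] (ψ : M ≃* Γ), cN a = Nat.card {g : Γ // g * ψ ⟨a, haM⟩ = ψ ⟨a, haM⟩ * g} :=
    fun {Γ} _ ψ => by
    refine Nat.card_congr
      { toFun := fun g => ⟨ψ ⟨g.1, hC g.1 g.2⟩, by rw [← map_mul, ← map_mul]; exact congrArg ψ (Subtype.ext g.2)⟩
        invFun := fun g => ⟨(ψ.symm g.1 : M).1, by
          have h : ψ.symm g.1 * ⟨a, haM⟩ = ⟨a, haM⟩ * ψ.symm g.1 :=
            ψ.injective (by simpa using g.2)
          exact congrArg Subtype.val h⟩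
        left_inv := fun g => by simp
        right_inv := fun g => by simp }
  have hsq : ∀ {Γ : Type} [Group Γ] (ψ : M ≃* Γ),
      ψ ⟨a, haM⟩ ^ 2 = 1 ∧ ψ ⟨a, haM⟩ ≠ 1 := fun {Γ} _ ψ => by
    refine ⟨by rw [← map_pow, show (⟨a, haM⟩ : M) ^ 2 = 1 from Subtype.ext ha, map_one], fun h => ha1 ?_⟩
    exact congrArg Subtype.val (ψ.injective (h.trans (map_one ψ).symm))
  rcases Dickson.subgroup_cases p hF M with ⟨hc, -, -⟩ | ⟨-, x, hx⟩ | ⟨n, hn, -, -, ⟨ψ⟩⟩ | ⟨⟨ψ⟩⟩ | ⟨⟨ψ⟩⟩ |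
      ⟨⟨ψ⟩⟩ | ⟨e, m, hk3, hkm, he, hsub⟩
  · exact Or.inl fun g hg => congrArg Subtype.val ((IsCyclic.commGroup (α := M)).mul_comm ⟨g, hg⟩ ⟨a, haM⟩)
  · exact absurd (hx b hbM) (not_common_fixed h2 ha ha1 hb hb1 hab hne x (hx a haM))
  · have : NeZero n := ⟨by omega⟩
    refine Or.inl fun g hg => ?_
    obtain ⟨h1, h1'⟩ := hsq ψ
    have h3 : ψ ⟨b, hbM⟩ ^ 2 = 1 := by
      rw [← map_pow, show (⟨b, hbM⟩ : M) ^ 2 = 1 from Subtype.ext hb, map_one]
    have h3' : ψ ⟨b, hbM⟩ ≠ 1 := fun h => hb1 (congrArg Subtype.val (ψ.injective (h.trans (map_one ψ).symm)))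
    have := (dihedral_two_involutions _ _ h1 h3 h1' h3' (by rw [← hcount ψ]; omega)).1 (ψ ⟨g, hg⟩)
    rw [← map_mul, ← map_mul] at this
    exact congrArg Subtype.val (ψ.injective this)
  · have := hcount ψ
    rw [Nat.card_eq_fintype_card, Fintype.card_subtype] at this
    have := centralizer_alt_four _ (hsq ψ).1 (hsq ψ).2
    omega
  · refine Or.inr ⟨⟨ψ⟩, ?_⟩
    rw [hcount ψ, Nat.card_eq_fintype_card, Fintype.card_subtype]
    exact centralizer_perm_four _ (hsq ψ).1 (hsq ψ).2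
  · have := hcount ψ
    rw [Nat.card_eq_fintype_card, Fintype.card_subtype] at this
    have := centralizer_alt_five _ (hsq ψ).1 (hsq ψ).2
    omega
  · have hp2 : p ≠ 2 := fun h => h2 (by
      have := CharP.cast_eq_zero F p
      rw [h] at this; exact_mod_cast this)
    have hK : Nat.card (GaloisField p e) = p ^ e := GaloisField.card p e he
    let _ : Fintype (GaloisField p e) := Fintype.ofFinite _
    rw [Nat.card_eq_fintype_card] at hK
    have hrM' : orderOf (⟨r, hrM⟩ : M) = orderOf r := (Subgroup.orderOf_mk r hrM)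
    have hgcd : Nat.gcd 2 (p ^ e - 1) = 2 := by
      have : Odd (p ^ e) := ((Fact.out : p.Prime).odd_of_ne_two hp2).pow
      obtain ⟨c, hc⟩ := this
      rw [hc, Nat.add_sub_cancel, Nat.gcd_mul_right_right]
    have hord : orderOf r ≤ p ^ e + 1 := by
      rcases hsub with ⟨-, ⟨ψ⟩⟩ | ⟨-, -, ⟨ψ⟩⟩
      · obtain ⟨z, hz⟩ := Dickson.sq_mem_range_toPGL (ψ ⟨r, hrM⟩)
        have hzo : orderOf z = orderOf ((⟨r, hrM⟩ : M) ^ 2) := by
          rw [← MulEquiv.orderOf_eq ψ, map_pow, ← hz,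
            orderOf_injective _ ProjectiveSpecialLinearGroup.toPGL_injective]
        have hzp : ¬ p ∣ orderOf z := fun h => hrp (by
          rw [hzo] at h; rw [← hrM']; exact h.trans (orderOf_pow_dvd 2))
        have h2r : orderOf r ≤ 2 * orderOf z := by
          refine Nat.le_of_dvd (Nat.mul_pos two_pos (orderOf_pos z)) ?_
          rw [← hrM', hzo]
          refine orderOf_dvd_of_pow_eq_one ?_
          rw [pow_mul, pow_orderOf_eq_one]
        rcases Dickson.orderOf_dvd_psl p z hzp hK with h | h <;> rw [hgcd] at h <;>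
          have := Nat.le_of_dvd (by omega) h <;> omega
      · have hzp : ¬ p ∣ orderOf (ψ ⟨r, hrM⟩) := by rw [MulEquiv.orderOf_eq, hrM']; exact hrp
        rcases Dickson.orderOf_dvd_psl p (ψ ⟨r, hrM⟩) hzp hK with h | h <;>
          rw [hgcd, MulEquiv.orderOf_eq, hrM'] at h <;>
          have := Nat.le_of_dvd (by omega) h <;> omega
    have hk : q ≤ 2 * p ^ e + 3 := by omega
    rcases m with _ | _ | m
    · rw [pow_zero] at hkm; omega
    · rw [zero_add, pow_one] at hkm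
      exfalso
      have hG := Dickson.card_psl_mul_two (F := F) hF
      have hpos : 0 < q * (q ^ 2 - 1) := Nat.mul_pos (by omega) (by
        have : 7 * 7 ≤ q ^ 2 := by rw [pow_two]; exact Nat.mul_le_mul hq hq
        omega)
      rcases hsub with ⟨hcard, -⟩ | ⟨-, hcard, -⟩ <;> rw [hkm] at hcard
      · have := Subgroup.card_subgroup_dvd_card M
        have h3 := Dickson.gcd_mul_card_psl (F := F) hF
        rw [show Nat.gcd 2 (q - 1) = 2 by rw [← hkm]; exact hgcd] at h3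
        have := Nat.le_of_dvd Nat.card_pos this
        omega
      · refine hM (Subgroup.eq_top_of_card_eq M ?_)
        have h3 := Dickson.gcd_mul_card_psl (F := F) hF
        rw [show Nat.gcd 2 (q - 1) = 2 by rw [← hkm]; exact hgcd] at h3
        omega
    · have h9 : p ^ e * p ^ e ≤ q := by
        rw [← hkm, ← pow_two]; exact Nat.pow_le_pow_right (by omega) (by omega)
      have h4 : p ^ e ≤ 3 := by
        by_contra h
        have : 4 * p ^ e ≤ p ^ e * p ^ e := Nat.mul_le_mul_right _ (by omega)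
        omega
      have hk : Fintype.card (GaloisField p e) = 3 := by omega
      rcases hsub with ⟨-, ⟨ψ⟩⟩ | ⟨-, -, ⟨ψ⟩⟩
      · obtain ⟨φ⟩ := Dickson.pgl_three_equiv (GaloisField p e) hk
        refine Or.inr ⟨⟨ψ.trans φ.symm⟩, ?_⟩
        rw [hcount (ψ.trans φ.symm), Nat.card_eq_fintype_card, Fintype.card_subtype]
        exact centralizer_perm_four _ (hsq (ψ.trans φ.symm)).1 (hsq (ψ.trans φ.symm)).2
      · obtain ⟨φ⟩ := Dickson.psl_three_equiv (GaloisField p e) hk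
        have := hcount (ψ.trans φ.symm)
        rw [Nat.card_eq_fintype_card, Fintype.card_subtype] at this
        have := centralizer_alt_four _ (hsq (ψ.trans φ.symm)).1 (hsq (ψ.trans φ.symm)).2
        omega

end CfsgLib.Lie.BinaryPSL
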